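import Groth.Agent.FPEnough.Quot
import Groth.Agent.LimModLib.HomDescend
import Groth.Agent.LimModLib.RightExact

/-!
# Modules of finite presentation and their quotients descend along limits
-/

set_option autoImplicit false
set_option backward.isDefEq.respectTransparency false
set_option backward.isDefEq.respectTransparency.types false

universe u

open CategoryTheory CategoryTheory.Limits AlgebraicGeometry Opposite TopologicalSpace

namespace Groth.Agent.FPEnough

variable {X Y : Scheme.{u}}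

/-- A module of finite type is a quotient of the pullback of a module of finite presentation. -/
theorem exists_epi_pullback [CompactSpace X] [QuasiSeparatedSpace X] (φ : Y ⟶ X) [IsAffineHom φ] {F : Y.Modules}
    (hF : Coh.IsQCoh F) (hft : CohB1.IsFT F) :
    ∃ (H : X.Modules) (q : (Scheme.Modules.pullback φ).obj H ⟶ F), Coh.IsQCoh H ∧ CohB1.IsFP H ∧ Epi q := by
  classical
  let P := (Scheme.Modules.pushforward φ).obj F
  have hP : Coh.IsQCoh P := QCoh.isQCoh_pushforward φ hF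
  let adj := Scheme.Modules.pullbackPushforwardAdjunction φ
  obtain ⟨t, ht⟩ := exists_finite_affine_cover (X := X)
  suffices h : ∀ s : Finset X.affineOpens, ∃ (H : X.Modules) (ψ : H ⟶ P), Coh.IsQCoh H ∧ CohB1.IsFP H ∧
      ∀ a ∈ s, Submodule.span Γ(Y, φ ⁻¹ᵁ a.1) (Set.range (fun x => (show Γ(F, φ ⁻¹ᵁ a.1) from ψ.app a.1 x))) = ⊤ by
    obtain ⟨H, ψ, hH, hfp, hspan⟩ := h t
    let q := (adj.homEquiv H F).symm ψ
    refine ⟨H, q, hH, hfp, Abelian.epi_of_cokernel_π_eq_zero q ?_⟩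
    refine QCoh.hom_eq_zero_of_cover hF (QCoh.isQCoh_cokernel (QCoh.isQCoh_pullback φ hH) hF q) _
      (fun a : t => φ ⁻¹ᵁ a.1.1) (fun a => a.1.2.preimage φ)
      (fun y => by obtain ⟨a, ha, hy⟩ := ht (φ y); exact ⟨⟨a, ha⟩, hy⟩) fun a y => ?_
    have hle : Submodule.span Γ(Y, φ ⁻¹ᵁ a.1.1) (Set.range (fun x => (show Γ(F, φ ⁻¹ᵁ a.1.1) from ψ.app a.1.1 x))) ≤
        LinearMap.range (QCoh.appLin q (φ ⁻¹ᵁ a.1.1)) := by
      refine Submodule.span_le.2 ?_
      rintro _ ⟨x, rfl⟩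
      have h := (adj.homEquiv H F).apply_symm_apply ψ
      rw [Adjunction.homEquiv_unit] at h
      exact ⟨(show Γ((Scheme.Modules.pullback φ).obj H, φ ⁻¹ᵁ a.1.1) from (adj.unit.app H).app a.1.1 x),
        congr(($h).app a.1.1 x)⟩
    rw [hspan a.1 a.2] at hle
    obtain ⟨z, rfl⟩ := hle (Submodule.mem_top : y ∈ ⊤)
    exact congr(($(cokernel.condition q)).app (φ ⁻¹ᵁ a.1.1) z)
  intro s
  induction s using Finset.induction with
  | empty =>
    obtain ⟨H, ψ, hH, hfp, -⟩ := exists_isFP_range hP ⟨⊥, isAffineOpen_bot X⟩ (S := ∅) Set.finite_empty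
    exact ⟨H, ψ, hH, hfp, fun a ha => by simp at ha⟩
  | insert W s _ ih =>
    obtain ⟨H, ψ, hH, hfp, hspan⟩ := ih
    haveI := QCoh.finite_of_isFT hF hft (W.2.preimage φ)
    obtain ⟨T, hT⟩ := Module.Finite.fg_top (R := Γ(Y, φ ⁻¹ᵁ W.1)) (M := Γ(F, φ ⁻¹ᵁ W.1))
    obtain ⟨H', ψ', hH', hfp', hT'⟩ := exists_isFP_range hP W (S := ((T : Set Γ(F, φ ⁻¹ᵁ W.1)) : Set Γ(P, W.1)))
      T.finite_toSet
    obtain ⟨hq, hfp''⟩ := isFP_biprod hH hfp hH' hfp'
    refine ⟨H ⊞ H', biprod.desc ψ ψ', hq, hfp'', fun a ha => top_le_iff.1 ?_⟩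
    rcases Finset.mem_insert.1 ha with rfl | ha
    · rw [← hT]
      refine Submodule.span_mono fun z hz => ?_
      obtain ⟨x, hx⟩ := hT' hz
      exact ⟨(biprod.inr : H' ⟶ H ⊞ H').app a.1 x, (congr(($(biprod.inr_desc ψ ψ')).app a.1 x)).trans hx⟩
    · rw [← hspan a ha]
      refine Submodule.span_mono ?_
      rintro _ ⟨x, rfl⟩
      exact ⟨(biprod.inl : H ⟶ H ⊞ H').app a.1 x, congr(($(biprod.inl_desc ψ ψ')).app a.1 x)⟩

theorem isFP_cokernel {M N : X.Modules} (hM : Coh.IsQCoh M) (hMft : CohB1.IsFT M) (hN : Coh.IsQCoh N)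
    (hNfp : CohB1.IsFP N) (f : M ⟶ N) : CohB1.IsFP (cokernel f) := by
  have hQ := QCoh.isQCoh_cokernel hM hN f
  refine (QCoh.isFP_iff hQ).2 fun U => ?_
  haveI := QCoh.finitePresentation_of_isFP hNfp U.2
  haveI := QCoh.finite_of_isFT hM hMft U.2
  refine Module.finitePresentation_of_surjective (QCoh.appLin (cokernel.π f) U.1)
    (QCoh.app_surjective_of_epi hN hQ (cokernel.π f) U.2) ?_
  have hker : LinearMap.ker (QCoh.appLin (cokernel.π f) U.1) = LinearMap.range (QCoh.appLin f U.1) := by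
    refine le_antisymm (fun y hy => ?_) ?_
    · obtain ⟨z, hz⟩ := QCoh.exists_app_f_eq
        (S := ShortComplex.mk (kernel.ι (cokernel.π f)) (cokernel.π f) (kernel.condition _))
        { exact := ShortComplex.exact_kernel _, mono_f := inferInstance, epi_g := inferInstance } U.1 y hy
      obtain ⟨x, hx⟩ := QCoh.app_surjective_of_epi hM (QCoh.isQCoh_kernel hN hQ _) (Abelian.factorThruImage f) U.2 z
      refine ⟨x, ?_⟩
      refine (congr(($(Abelian.image.fac f)).app U.1 x)).symm.trans ?_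
      exact (congrArg (fun z => (kernel.ι (cokernel.π f)).app U.1 z) hx).trans hz
    · rintro _ ⟨x, rfl⟩
      exact LinearMap.mem_ker.2 congr(($(cokernel.condition f)).app U.1 x)
  rw [hker]
  exact Submodule.fg_range _

variable {I : Type u} [SmallCategory I] [IsCofiltered I] {D : I ⥤ Scheme.{u}} {c : Cone D}
  (hc : IsLimit c) [∀ {i j : I} (f : i ⟶ j), IsAffineHom (D.map f)] {i : I}
  [CompactSpace (D.obj i)] [QuasiSeparatedSpace (D.obj i)]

include hc in
/-- A quotient of finite presentation of a pullback comes from a stage. -/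
theorem exists_quotient_descend {F₀ : (D.obj i).Modules} (hF₀ : Coh.IsQCoh F₀) (hF₀fp : CohB1.IsFP F₀)
    {G : c.pt.Modules} (hG : Coh.IsQCoh G) (hGfp : CohB1.IsFP G)
    (p : (Scheme.Modules.pullback (c.π.app i)).obj F₀ ⟶ G) [Epi p] :
    ∃ (j : I) (φ : j ⟶ i) (Gj : (D.obj j).Modules) (_ : Coh.IsQCoh Gj)
      (pj : (Scheme.Modules.pullback (D.map φ)).obj F₀ ⟶ Gj)
      (e : (Scheme.Modules.pullback (c.π.app j)).obj Gj ≅ G),
      CohB1.IsFP Gj ∧ Epi pj ∧
        ((Scheme.Modules.pullbackComp (c.π.app j) (D.map φ) ≪≫ Scheme.Modules.pullbackCongr (c.w φ)).app F₀).inv ≫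
          (Scheme.Modules.pullback (c.π.app j)).map pj ≫ e.hom = p := by
  haveI : IsAffineHom (c.π.app i) := isAffineHom_π_app D c hc i
  let π : c.pt ⟶ D.obj i := c.π.app i
  have hπF := QCoh.isQCoh_pullback π hF₀
  have hπFt : CohB1.IsFT ((Scheme.Modules.pullback π).obj F₀) :=
    LimModLib.isFT_of_isFP hπF (LimModLib.isFP_pullback π hF₀ hF₀fp)
  have hK := QCoh.isQCoh_kernel hπF hG p
  have hKft := LimModLib.isFT_kernel hπF hπFt hG hGfp p
  obtain ⟨H, r, hH, hHfp, hr⟩ := exists_epi_pullback π hK hKft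
  haveI := hr
  obtain ⟨j, hj, hcomm⟩ := LimModLib.exists_hom_descend hc hH hHfp hF₀ (r ≫ kernel.ι p)
  let P := Scheme.Modules.pullback (D.map j.hom)
  let A := Scheme.Modules.pullback (c.π.app j.left)
  let t := Scheme.Modules.pullbackComp (c.π.app j.left) (D.map j.hom) ≪≫ Scheme.Modules.pullbackCongr (c.w j.hom)
  have hF' := QCoh.isQCoh_pullback (D.map j.hom) hF₀
  have hH' := QCoh.isQCoh_pullback (D.map j.hom) hH
  have w : A.map hj ≫ (t.app F₀).hom ≫ p = 0 := by
    have h2 : A.map hj ≫ (t.app F₀).hom = (t.app H).hom ≫ r ≫ kernel.ι p := by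
      rw [← hcomm, Iso.hom_inv_id_assoc]
    rw [← Category.assoc, h2, Category.assoc, Category.assoc, kernel.condition, comp_zero, comp_zero]
  have hex : (ShortComplex.mk (A.map hj) ((t.app F₀).hom ≫ p) w).Exact := by
    have h0 : (ShortComplex.mk (r ≫ kernel.ι p) p (by rw [Category.assoc, kernel.condition, comp_zero])).Exact := by
      rw [ShortComplex.exact_iff_epi_kernel_lift]
      have : kernel.lift p (r ≫ kernel.ι p) (by rw [Category.assoc, kernel.condition, comp_zero]) = r := by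
        rw [← cancel_mono (kernel.ι p), kernel.lift_ι]
      rwa [this]
    refine (ShortComplex.exact_iff_of_iso (ShortComplex.isoMk (t.app H) (t.app F₀) (Iso.refl G) ?_ ?_)).2 h0
    · show (t.app H).hom ≫ r ≫ kernel.ι p = A.map hj ≫ (t.app F₀).hom
      rw [← hcomm]
      exact Iso.hom_inv_id_assoc (t.app H) _
    · exact (Category.comp_id _).symm
  obtain ⟨hc'⟩ := (ShortComplex.mk (A.map hj) ((t.app F₀).hom ≫ p) w).exact_and_epi_g_iff_g_is_cokernel.1
    ⟨hex, inferInstanceAs (Epi ((t.app F₀).hom ≫ p))⟩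
  have hc'' := isColimitCoforkMapOfIsColimit' A (cokernel.condition hj) (cokernelIsCokernel hj)
  refine ⟨j.left, j.hom, cokernel hj, QCoh.isQCoh_cokernel hH' hF' hj, cokernel.π hj,
    hc''.coconePointUniqueUpToIso hc', isFP_cokernel hH'
      (LimModLib.isFT_of_isFP hH' (LimModLib.isFP_pullback _ hH hHfp)) hF' (LimModLib.isFP_pullback _ hF₀ hF₀fp) hj,
    inferInstance, ?_⟩
  have he : A.map (cokernel.π hj) ≫ (hc''.coconePointUniqueUpToIso hc').hom = (t.app F₀).hom ≫ p :=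
    IsColimit.comp_coconePointUniqueUpToIso_hom hc'' hc' WalkingParallelPair.one
  exact (Iso.inv_comp_eq _).2 he

include hc in
/-- A module of finite presentation comes from a stage. -/
theorem exists_module_descend {F : c.pt.Modules} (hF : Coh.IsQCoh F) (hFfp : CohB1.IsFP F) :
    ∃ (j : I) (_ : j ⟶ i) (Fj : (D.obj j).Modules), Coh.IsQCoh Fj ∧ CohB1.IsFP Fj ∧
      Nonempty ((Scheme.Modules.pullback (c.π.app j)).obj Fj ≅ F) := by
  haveI : IsAffineHom (c.π.app i) := isAffineHom_π_app D c hc i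
  obtain ⟨H, q, hH, hHfp, hq⟩ := exists_epi_pullback (c.π.app i) hF (LimModLib.isFT_of_isFP hF hFfp)
  haveI := hq
  obtain ⟨j, φ, Gj, hGj, pj, e, hfp, -, -⟩ := exists_quotient_descend hc hH hHfp hF hFfp q
  exact ⟨j, φ, Gj, hGj, hfp, ⟨e⟩⟩

end Groth.Agent.FPEnough
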