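import Groth.Agent.FPEnough.Descend
import Groth.Agent.LimModLib.LHom

/-!
# A quasi-coherent module is a filtered colimit of modules of finite presentation
-/

set_option autoImplicit false
set_option backward.isDefEq.respectTransparency false
set_option backward.isDefEq.respectTransparency.types false

universe u

open CategoryTheory CategoryTheory.Limits AlgebraicGeometry Opposite TopologicalSpace

namespace Groth.Agent.FPEnough

variable {X : Scheme.{u}} [CompactSpace X] [QuasiSeparatedSpace X] {F : X.Modules} (hF : Coh.IsQCoh F)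

/-- A module of finite presentation over `F`. -/
def Good (F : X.Modules) := {a : Over F // Coh.IsQCoh a.left ∧ CohB1.IsFP a.left}

/-- The sum of two modules over `F`. -/
noncomputable def plus (a b : Good F) : Good F :=
  ⟨Over.mk (biprod.desc a.1.hom b.1.hom), isFP_biprod a.2.1 a.2.2 b.2.1 b.2.2⟩

/-- The cokernel of a morphism killed in `F`. -/
noncomputable def coeq (p : Σ (a : Good F) (b : Good F), {d : a.1.left ⟶ b.1.left // d ≫ b.1.hom = 0}) : Good F :=
  ⟨Over.mk (cokernel.desc p.2.2.1 p.2.1.1.hom p.2.2.2),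
    QCoh.isQCoh_cokernel p.1.2.1 p.2.1.2.1 p.2.2.1,
    isFP_cokernel p.1.2.1 (LimModLib.isFT_of_isFP p.1.2.1 p.1.2.2) p.2.1.2.1 p.2.1.2.2 p.2.2.1⟩

theorem exists_gen (hF : Coh.IsQCoh F) (V : X.affineOpens) (s : Γ(F, V.1)) :
    ∃ a : Good F, s ∈ Set.range (a.1.hom.app V.1) := by
  obtain ⟨H, ψ, hH, hfp, hs⟩ := exists_isFP_range hF V (Set.finite_singleton s)
  exact ⟨⟨Over.mk ψ, hH, hfp⟩, hs rfl⟩

theorem exists_killer (hF : Coh.IsQCoh F) (a : Good F) (V : X.affineOpens) (z : Γ(a.1.left, V.1))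
    (hz : a.1.hom.app V.1 z = 0) :
    ∃ (k : Good F) (d : k.1.left ⟶ a.1.left), d ≫ a.1.hom = 0 ∧ z ∈ Set.range (d.app V.1) := by
  obtain ⟨y, hy⟩ := QCoh.exists_app_f_eq (S := ShortComplex.mk (kernel.ι a.1.hom) (cokernel.π (kernel.ι a.1.hom))
      (cokernel.condition _)) (.mk' (ShortComplex.exact_of_g_is_cokernel _ (cokernelIsCokernel _)) inferInstance
      inferInstance) V.1 z (by
    refine QCoh.app_injective (Abelian.factorThruCoimage a.1.hom) V.1 ?_
    rw [map_zero]
    exact (congr(($(Abelian.coimage.fac a.1.hom)).app V.1 z) : _).trans hz)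
  obtain ⟨K, r, hK, hKfp, hr⟩ := exists_isFP_range (QCoh.isQCoh_kernel a.2.1 hF a.1.hom) V (Set.finite_singleton y)
  obtain ⟨w, hw⟩ := hr rfl
  refine ⟨⟨Over.mk (0 : K ⟶ F), hK, hKfp⟩, r ≫ kernel.ι a.1.hom, ?_, w, ?_⟩
  · rw [Category.assoc, kernel.condition, comp_zero]
  · exact (congrArg ((kernel.ι a.1.hom).app V.1) hw).trans hy

/-- A module which kills a given section. -/
noncomputable def killer (p : Σ (a : Good F) (V : X.affineOpens), {z : Γ(a.1.left, V.1) // a.1.hom.app V.1 z = 0}) :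
    Good F :=
  coeq ⟨(exists_killer hF p.1 p.2.1 p.2.2.1 p.2.2.2).choose, p.1,
    (exists_killer hF p.1 p.2.1 p.2.2.1 p.2.2.2).choose_spec.choose,
    (exists_killer hF p.1 p.2.1 p.2.2.1 p.2.2.2).choose_spec.choose_spec.1⟩

/-- The finite stages of the indexing set. -/
noncomputable def level : ℕ → Set (Good F)
  | 0 => Set.range fun p : Σ V : X.affineOpens, Γ(F, V.1) => (exists_gen hF p.1 p.2).choose
  | n + 1 => level n ∪ Set.image2 plus (level n) (level n) ∪
      Set.range (fun p : Σ (a : level n) (V : X.affineOpens), {z : Γ(a.1.1.left, V.1) // a.1.1.hom.app V.1 z = 0} =>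
        killer hF ⟨p.1.1, p.2⟩) ∪
      Set.range (fun p : Σ (a : level n) (b : level n), {d : a.1.1.left ⟶ b.1.1.left // d ≫ b.1.1.hom = 0} =>
        coeq ⟨p.1.1, p.2.1.1, p.2.2⟩)

/-- The indexing set. -/
def index : Set (Good F) := ⋃ n, level hF n

instance small_level (n : ℕ) : Small.{u} (level hF n) := by
  induction n with
  | zero => exact small_range _
  | succ n ih =>
    show Small.{u} (_ ∪ _ ∪ _ ∪ _ : Set (Good F))
    infer_instance

instance small_index : Small.{u} (index hF) := by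
  unfold index
  infer_instance

theorem level_mono {m n : ℕ} (h : m ≤ n) : level hF m ⊆ level hF n := by
  induction h with
  | refl => exact subset_rfl
  | step _ ih => exact fun a ha => Or.inl (Or.inl (Or.inl (ih ha)))

theorem plus_mem {a b : Good F} (ha : a ∈ index hF) (hb : b ∈ index hF) : plus a b ∈ index hF := by
  obtain ⟨m, hm⟩ := Set.mem_iUnion.1 ha
  obtain ⟨n, hn⟩ := Set.mem_iUnion.1 hb
  exact Set.mem_iUnion.2 ⟨max m n + 1, Or.inl (Or.inl (Or.inr ⟨a, level_mono hF (le_max_left m n) hm, b,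
    level_mono hF (le_max_right m n) hn, rfl⟩))⟩

theorem killer_mem {a : Good F} (ha : a ∈ index hF) (V : X.affineOpens)
    (z : {z : Γ(a.1.left, V.1) // a.1.hom.app V.1 z = 0}) : killer hF ⟨a, V, z⟩ ∈ index hF := by
  obtain ⟨m, hm⟩ := Set.mem_iUnion.1 ha
  exact Set.mem_iUnion.2 ⟨m + 1, Or.inl (Or.inr ⟨⟨⟨a, hm⟩, V, z⟩, rfl⟩)⟩

theorem coeq_mem {a b : Good F} (ha : a ∈ index hF) (hb : b ∈ index hF)
    (d : {d : a.1.left ⟶ b.1.left // d ≫ b.1.hom = 0}) : coeq ⟨a, b, d⟩ ∈ index hF := by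
  obtain ⟨m, hm⟩ := Set.mem_iUnion.1 ha
  obtain ⟨n, hn⟩ := Set.mem_iUnion.1 hb
  exact Set.mem_iUnion.2 ⟨max m n + 1, Or.inr ⟨⟨⟨a, level_mono hF (le_max_left m n) hm⟩,
    ⟨b, level_mono hF (le_max_right m n) hn⟩, d⟩, rfl⟩⟩

/-- The objects of the indexing category. -/
noncomputable def obj (s : Shrink.{u} (index hF)) : Over F := ((equivShrink (index hF)).symm s).1.1

/-- The indexing category. -/
abbrev Ix : Type u := InducedCategory (Over F) (obj hF)

/-- A morphism of the indexing category. -/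
noncomputable def ixHom {a b : Ix hF} (d : (obj hF a).left ⟶ (obj hF b).left)
    (h : d ≫ (obj hF b).hom = (obj hF a).hom) : a ⟶ b :=
  InducedCategory.homMk (Over.homMk d h)

theorem exists_ix {a : Good F} (ha : a ∈ index hF) : ∃ i : Ix hF, obj hF i = a.1 :=
  ⟨equivShrink (index hF) ⟨a, ha⟩, by rw [obj, Equiv.symm_apply_apply]⟩

theorem ix_spec (i : Ix hF) : ∃ a ∈ index hF, a.1 = obj hF i :=
  ⟨_, ((equivShrink (index hF)).symm i).2, rfl⟩

theorem exists_section (V : X.affineOpens) (s : Γ(F, V.1)) :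
    ∃ (i : Ix hF) (y : Γ((obj hF i).left, V.1)), (obj hF i).hom.app V.1 y = s := by
  let a := (exists_gen hF V s).choose
  have ha : a ∈ index hF := Set.mem_iUnion.2 ⟨0, ⟨⟨V, s⟩, rfl⟩⟩
  refine ⟨equivShrink (index hF) ⟨a, ha⟩, ?_⟩
  have : obj hF (equivShrink (index hF) ⟨a, ha⟩) = a.1 := by rw [obj, Equiv.symm_apply_apply]
  rw [this]
  exact (exists_gen hF V s).choose_spec

theorem exists_upper (i j : Ix hF) : ∃ k : Ix hF, Nonempty (i ⟶ k) ∧ Nonempty (j ⟶ k) := by
  obtain ⟨a, ha, hai⟩ := ix_spec hF i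
  obtain ⟨b, hb, hbj⟩ := ix_spec hF j
  obtain ⟨k, hk⟩ := exists_ix hF (plus_mem hF ha hb)
  have h1 : a.1 ⟶ obj hF k := Over.homMk biprod.inl (biprod.inl_desc _ _) ≫ eqToHom hk.symm
  have h2 : b.1 ⟶ obj hF k := Over.homMk biprod.inr (biprod.inr_desc _ _) ≫ eqToHom hk.symm
  exact ⟨k, ⟨InducedCategory.homMk (eqToHom hai.symm ≫ h1)⟩, ⟨InducedCategory.homMk (eqToHom hbj.symm ≫ h2)⟩⟩

theorem exists_coeq {i j : Ix hF} (f g : i ⟶ j) : ∃ (k : Ix hF) (h : j ⟶ k), f ≫ h = g ≫ h := by
  obtain ⟨a, ha, hai⟩ := ix_spec hF i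
  obtain ⟨b, hb, hbj⟩ := ix_spec hF j
  let f' : a.1 ⟶ b.1 := eqToHom hai ≫ f.hom ≫ eqToHom hbj.symm
  let g' : a.1 ⟶ b.1 := eqToHom hai ≫ g.hom ≫ eqToHom hbj.symm
  let d : {d : a.1.left ⟶ b.1.left // d ≫ b.1.hom = 0} :=
    ⟨f'.left - g'.left, by rw [Preadditive.sub_comp, Over.w f', Over.w g', sub_self]⟩
  obtain ⟨k, hk⟩ := exists_ix hF (coeq_mem hF ha hb d)
  let q : b.1 ⟶ obj hF k := Over.homMk (cokernel.π d.1) (cokernel.π_desc _ _ _) ≫ eqToHom hk.symm
  have hq : f' ≫ q = g' ≫ q := by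
    ext1
    simp only [q, Over.comp_left, Over.homMk_left, ← Category.assoc]
    congr 1
    rw [← sub_eq_zero, ← Preadditive.sub_comp]
    exact cokernel.condition d.1
  refine ⟨k, InducedCategory.homMk (eqToHom hbj.symm ≫ q), InducedCategory.hom_ext ?_⟩
  show f.hom ≫ eqToHom hbj.symm ≫ q = g.hom ≫ eqToHom hbj.symm ≫ q
  rw [← cancel_epi (eqToHom hai)]
  simpa only [f', g', Category.assoc] using hq

theorem exists_kill (i : Ix hF) (V : X.affineOpens) (z : Γ((obj hF i).left, V.1))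
    (hz : (obj hF i).hom.app V.1 z = 0) : ∃ (k : Ix hF) (h : i ⟶ k), h.hom.left.app V.1 z = 0 := by
  obtain ⟨a, ha, hai⟩ := ix_spec hF i
  let i' := obj hF i
  have key : ∀ (o : Over F) (e : a.1 = o) (z : Γ(o.left, V.1)), o.hom.app V.1 z = 0 →
      ∃ (k : Ix hF) (h : o ⟶ obj hF k), h.left.app V.1 z = 0 := by
    rintro _ rfl z hz
    obtain ⟨k, hk⟩ := exists_ix hF (killer_mem hF ha V ⟨z, hz⟩)
    refine ⟨k, ?_⟩
    rw [hk]
    obtain ⟨w, hw⟩ := (exists_killer hF a V z hz).choose_spec.choose_spec.2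
    refine ⟨Over.homMk (cokernel.π _) (cokernel.π_desc _ _ _), ?_⟩
    let d := (exists_killer hF a V z hz).choose_spec.choose
    show (cokernel.π d).app V.1 z = 0
    refine (congrArg (fun t => (cokernel.π d).app V.1 t) hw.symm).trans ?_
    exact congr(($(cokernel.condition d)).app V.1 w)
  obtain ⟨k, h, hh⟩ := key _ hai z hz
  exact ⟨k, InducedCategory.homMk h, hh⟩

theorem isFiltered_ix (hne : Nonempty (Ix hF)) : IsFiltered (Ix hF) :=
  haveI : IsFilteredOrEmpty (Ix hF) :=
    { cocone_objs := fun i j => by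
        obtain ⟨k, ⟨f⟩, ⟨g⟩⟩ := exists_upper hF i j
        exact ⟨k, f, g, trivial⟩
      cocone_maps := fun _ _ f g => exists_coeq hF f g }
  IsFiltered.mk

/-- The diagram. -/
noncomputable abbrev diag : Ix hF ⥤ X.Modules := inducedFunctor (obj hF) ⋙ Over.forget F

/-- The cocone. -/
noncomputable abbrev cocone : Cocone (diag hF) where
  pt := F
  ι := { app := fun i => (obj hF i).hom
         naturality := fun i j f => by
          show f.hom.left ≫ (obj hF j).hom = (obj hF i).hom ≫ 𝟙 F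
          rw [Over.w, Category.comp_id] }

theorem isQCoh_diag (i : Ix hF) : Coh.IsQCoh ((diag hF).obj i) := by
  obtain ⟨a, -, hai⟩ := ix_spec hF i
  show Coh.IsQCoh (obj hF i).left
  rw [← hai]; exact a.2.1

theorem isFP_diag (i : Ix hF) : CohB1.IsFP ((diag hF).obj i) := by
  obtain ⟨a, -, hai⟩ := ix_spec hF i
  show CohB1.IsFP (obj hF i).left
  rw [← hai]; exact a.2.2

theorem glue_eq (s : Cocone (diag hF)) (V : X.affineOpens) {i j : Ix hF} (x : Γ((obj hF i).left, V.1))
    (y : Γ((obj hF j).left, V.1)) (h : (obj hF i).hom.app V.1 x = (obj hF j).hom.app V.1 y) :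
    (s.ι.app i).app V.1 x = (s.ι.app j).app V.1 y := by
  obtain ⟨k, ⟨f⟩, ⟨g⟩⟩ := exists_upper hF i j
  have hzero : (obj hF k).hom.app V.1 (f.hom.left.app V.1 x - g.hom.left.app V.1 y) = 0 := by
    rw [map_sub, sub_eq_zero]
    exact ((congr(($(Over.w f.hom)).app V.1 x) : _).trans h).trans (congr(($(Over.w g.hom)).app V.1 y) : _).symm
  obtain ⟨l, q, hq⟩ := exists_kill hF k V _ hzero
  rw [map_sub, sub_eq_zero] at hq
  have hx := congr(($(s.w (f ≫ q))).app V.1 x)
  have hy := congr(($(s.w (g ≫ q))).app V.1 y)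
  exact (hx : _).symm.trans ((congrArg ((s.ι.app l).app V.1) hq).trans hy)

/-- `F` is the colimit. -/
theorem nonempty_isColimit : Nonempty (IsColimit (cocone hF)) := by
  have hex : ∀ s : Cocone (diag hF), ∃ φ : F ⟶ s.pt,
      ∀ i, (obj hF i).hom ≫ φ = s.ι.app i := by
    intro s
    have hl : ∀ V : X.affineOpens, ∃ l : LimModLib.LHom F s.pt V.1,
        ∀ (i : Ix hF) (y : Γ((obj hF i).left, V.1)),
          l.app V.1 le_rfl ((obj hF i).hom.app V.1 y) = (s.ι.app i).app V.1 y := by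
      intro V
      choose i y hy using fun x => exists_section hF V x
      let ℓ : Γ(F, V.1) →ₗ[Γ(X, V.1)] Γ(s.pt, V.1) :=
        { toFun := fun x => (s.ι.app (i x)).app V.1 (y x)
          map_add' := fun a b => by
            obtain ⟨k, ⟨f⟩, ⟨g⟩⟩ := exists_upper hF (i a) (i b)
            refine (glue_eq hF s V (i := i (a + b)) (j := k) (y (a + b)) (f.hom.left.app V.1 (y a) + g.hom.left.app V.1 (y b)) ?_).trans ?_
            · rw [hy, map_add]
              refine congrArg₂ (· + ·) ?_ ?_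
              · exact ((congr(($(Over.w f.hom)).app V.1 (y a)) : _).trans (hy a)).symm
              · exact ((congr(($(Over.w g.hom)).app V.1 (y b)) : _).trans (hy b)).symm
            · rw [map_add]
              exact congrArg₂ (· + ·) congr(($(s.w f)).app V.1 (y a)) congr(($(s.w g)).app V.1 (y b))
          map_smul' := fun r a => by
            refine (glue_eq hF s V (i := i (r • a)) (j := i a) (y (r • a)) (r • y a) ?_).trans ((s.ι.app (i a)).app_smul r (y a))
            rw [hy, Scheme.Modules.Hom.app_smul, hy] }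
      obtain ⟨l, hl⟩ := LimModLib.LHom.exists_of_top hF V.2 ℓ
      refine ⟨l, fun j x => (hl _).trans ?_⟩
      exact glue_eq hF s V _ _ (hy _)
    choose l hl using hl
    -- the values on smaller opens
    have hsmall : ∀ (V : X.affineOpens) (i : Ix hF) (W : X.Opens) (hW : W ≤ V.1) (x : Γ((obj hF i).left, W)),
        (l V).app W hW ((obj hF i).hom.app W x) = (s.ι.app i).app W x := by
      intro V i W hW x
      let m : LimModLib.LHom (obj hF i).left s.pt V.1 :=
        { app := fun W h => ((l V).app W h).comp (AddMonoidHom.mk' ((obj hF i).hom.app W) (map_add _))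
          smul := fun W h r z => by
            show (l V).app W h ((obj hF i).hom.app W (r • z)) = _
            rw [Scheme.Modules.Hom.app_smul]
            exact (l V).smul W h r _
          nat := fun W W' h h' z => by
            show s.pt.presheaf.map _ ((l V).app W h _) = (l V).app W' _ _
            rw [(l V).nat]
            exact congrArg _ (QCoh.map_app_comm _ _ _).symm }
      exact LimModLib.LHom.ext_top (isQCoh_diag hF i) V.2 m (LimModLib.LHom.ofHom (s.ι.app i) V.1)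
        (fun z => hl V i z) W hW x
    have hcov : ∀ x : X, ∃ V : X.affineOpens, x ∈ V.1 := fun x => by
      obtain ⟨_, ⟨U, hU, rfl⟩, hx, -⟩ := X.isBasis_affineOpens.exists_subset_of_mem_open (Set.mem_univ x) isOpen_univ
      exact ⟨⟨U, hU⟩, hx⟩
    obtain ⟨φ, hφ⟩ := LimModLib.LHom.exists_glue (fun V : X.affineOpens => V.1) hcov l fun a b W hW hW' x => by
      refine LimModLib.LHom.eq_of_cover (l a) (l b)
        (fun V : {V : X.affineOpens // V.1 ≤ a.1 ⊓ b.1} => V.1.1) ?_ (fun V => V.2) (fun V W'' hW'' z => ?_) W hW hW' x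
      · intro p hp
        obtain ⟨U, hU, hpU, hle⟩ := exists_isAffineOpen_mem_and_subset (x := p) (U := a.1 ⊓ b.1) hp
        exact Opens.mem_iSup.2 ⟨⟨⟨U, hU⟩, hle⟩, hpU⟩
      · exact LimModLib.LHom.ext_top hF V.1.2 ((l a).res (V.2.trans inf_le_left)) ((l b).res (V.2.trans inf_le_right))
          (fun w => by
            obtain ⟨i, y, rfl⟩ := exists_section hF V.1 w
            exact (hsmall a i V.1.1 _ y).trans (hsmall b i V.1.1 _ y).symm) W'' hW'' z
    refine ⟨φ, fun i => sub_eq_zero.1 ?_⟩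
    refine LimModLib.eq_zero_of_restrict (fun V : X.affineOpens => V.1.ι)
      (fun x => by obtain ⟨V, hV⟩ := hcov x; exact ⟨V, ⟨x, hV⟩, rfl⟩) _ fun V => ?_
    refine Scheme.Modules.hom_ext _ _ fun W => ?_
    ext z
    show φ.app _ ((obj hF i).hom.app (V.1.ι ''ᵁ W) z) - (show Γ(s.pt, V.1.ι ''ᵁ W) from (s.ι.app i).app _ z) = 0
    have hle : V.1.ι ''ᵁ W ≤ V.1 := by
      refine le_trans (Scheme.Hom.image_le_opensRange _ _) ?_
      rw [Scheme.Opens.opensRange_ι]
    rw [hφ V _ hle, hsmall V i _ hle, sub_self]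
  choose d hd using hex
  refine ⟨{ desc := d, fac := fun s i => hd s i, uniq := fun s m hm => sub_eq_zero.1 ?_ }⟩
  let C := m - d s
  refine LimModLib.eq_zero_of_restrict (fun V : X.affineOpens => V.1.ι) (fun x => by
    obtain ⟨_, ⟨U, hU, rfl⟩, hx, -⟩ := X.isBasis_affineOpens.exists_subset_of_mem_open (Set.mem_univ x) isOpen_univ
    exact ⟨⟨U, hU⟩, ⟨x, hx⟩, rfl⟩) _ fun V => ?_
  refine Scheme.Modules.hom_ext _ _ fun W => ?_
  ext z
  have hle : V.1.ι ''ᵁ W ≤ V.1 := by
    refine le_trans (Scheme.Hom.image_le_opensRange _ _) ?_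
    rw [Scheme.Opens.opensRange_ι]
  show m.app _ z - (d s).app _ z = 0
  rw [sub_eq_zero]
  refine LimModLib.LHom.ext_top hF V.2 (LimModLib.LHom.ofHom m V.1) (LimModLib.LHom.ofHom (d s) V.1) (fun w => ?_)
    (V.1.ι ''ᵁ W) hle z
  obtain ⟨i, y, rfl⟩ := exists_section hF V w
  exact (congr(($(hm i)).app V.1 y) : _).trans (congr(($(hd s i)).app V.1 y) : _).symm

theorem nonempty_ix : Nonempty (Ix hF) := ⟨(exists_section hF ⟨⊥, isAffineOpen_bot X⟩ 0).choose⟩

end Groth.Agent.FPEnough
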