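import Groth.Agent.QCoh.Qcqs
import Groth.Agent.QCoh.Local
import Groth.Agent.QCoh.Tilde
import Groth.Agent.QCoh.Extension
import Groth.Agent.LimModLib.FlatDescent

/-!
# Extending a module on an open along a morphism, and local tests for bijectivity on sections
-/

set_option autoImplicit false
set_option backward.isDefEq.respectTransparency false
set_option backward.isDefEq.respectTransparency.types false

universe u

open CategoryTheory CategoryTheory.Limits AlgebraicGeometry Opposite TopologicalSpace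

namespace Groth.Agent.FPEnough

variable {X : Scheme.{u}}

theorem bijective_app_of_isIso {M N : X.Modules} (φ : M ⟶ N) [IsIso φ] (O : X.Opens) :
    Function.Bijective (φ.app O) := by
  haveI : IsIso (φ.app O) := inferInstanceAs (IsIso (((Scheme.Modules.toPresheaf X).map φ).app (op O)))
  exact ConcreteCategory.bijective_of_isIso _

theorem exists_extend_map {Y : Scheme.{u}} (j : Y ⟶ X) [IsOpenImmersion j] [QuasiCompact j] {P : X.Modules}
    (hP : Coh.IsQCoh P) {T : Y.Modules} (hT : Coh.IsQCoh T) (φ : T ⟶ P.restrict j) :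
    ∃ (H : X.Modules) (ψ : H ⟶ P) (e : H.restrict j ≅ T), Coh.IsQCoh H ∧
      e.hom ≫ φ = (Scheme.Modules.restrictFunctor j).map ψ ∧
      ∀ O : X.Opens, Function.Bijective (ψ.app (j ''ᵁ j ⁻¹ᵁ O)) → Function.Bijective (ψ.app O) := by
  let adj := Scheme.Modules.restrictAdjunction j
  let R := Scheme.Modules.restrictFunctor j
  let a := (Scheme.Modules.pushforward j).map φ
  let b : P ⟶ (Scheme.Modules.pushforward j).obj (P.restrict j) := adj.unit.app P
  have hp : ∀ {M : Y.Modules}, Coh.IsQCoh M → Coh.IsQCoh ((Scheme.Modules.pushforward j).obj M) :=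
    fun h => QCoh.isQCoh_pushforward j h
  have hq : Coh.IsQCoh (pullback a b) := by
    have h1 : Coh.IsQCoh (((Scheme.Modules.pushforward j).obj T) ⊞ P) :=
      QCoh.isQCoh_X₂ (S := ShortComplex.mk (biprod.inl : (Scheme.Modules.pushforward j).obj T ⟶ _ ⊞ P) biprod.snd biprod.inl_snd)
        (ShortComplex.Splitting.ofHasBinaryBiproduct _ _).shortExact (hp hT) hP
    have h2 := QCoh.isQCoh_kernel h1 (hp (QCoh.isQCoh_restrict j hP)) (biprod.desc a (-b))
    exact (QCoh.isQCoh_iff_iso (IsLimit.conePointUniqueUpToIso (Abelian.PullbackToBiproductIsKernel.isLimitPullbackToBiproduct a b) (limit.isLimit _))).2 h2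
  haveI := QCoh.restrict_preservesFiniteLimits j
  haveI hb : IsIso (R.map b) := by
    haveI : IsIso (R.map b ≫ adj.counit.app (P.restrict j)) := by
      have h := adj.left_triangle_components P
      exact h.symm ▸ (inferInstance : IsIso (𝟙 (R.obj P)))
    exact IsIso.of_isIso_comp_right (R.map b) (adj.counit.app (P.restrict j))
  haveI : IsIso (R.map (pullback.fst a b)) :=
    ((IsPullback.of_hasPullback a b).map R).isIso_fst_of_isIso
  let e : (pullback a b).restrict j ≅ T := asIso (R.map (pullback.fst a b)) ≪≫ asIso (adj.counit.app T)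
  have hcomm : e.hom ≫ φ = R.map (pullback.snd a b) := by
    have hn : R.map a ≫ adj.counit.app (P.restrict j) = adj.counit.app T ≫ φ := adj.counit.naturality φ
    refine (Category.assoc _ _ _).trans ?_
    refine (congrArg (fun z => R.map (pullback.fst a b) ≫ z) hn.symm).trans ?_
    refine (Category.assoc _ _ _).symm.trans ?_
    refine (congrArg (fun z => z ≫ adj.counit.app (P.restrict j)) (((R.map_comp _ _).symm.trans (congrArg R.map pullback.condition)).trans (R.map_comp _ _))).trans ?_
    refine (Category.assoc _ _ _).trans ?_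
    exact (congrArg (fun z => R.map (pullback.snd a b) ≫ z) (adj.left_triangle_components P)).trans (Category.comp_id _)
  refine ⟨pullback a b, pullback.snd a b, e, hq, hcomm, fun O hO => ?_⟩
  have hφ : Function.Bijective (φ.app (j ⁻¹ᵁ O)) := by
    have h1 : φ = e.inv ≫ R.map (pullback.snd a b) := by rw [← hcomm, Iso.inv_hom_id_assoc]
    rw [h1]
    exact hO.comp (bijective_app_of_isIso e.inv _)
  let E := Scheme.Modules.toPresheaf X ⋙ (evaluation _ _).obj (op O)
  haveI : IsIso (E.map a) :=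
    (ConcreteCategory.isIso_iff_bijective (C := AddCommGrpCat) (φ.app (j ⁻¹ᵁ O))).2 hφ
  haveI : PreservesFiniteLimits (Scheme.Modules.toPresheaf X) := PreservesLimitsOfSize.preservesFiniteLimits _
  haveI : PreservesFiniteLimits ((evaluation (Opens ↥X)ᵒᵖ AddCommGrpCat.{u}).obj (op O)) := ⟨fun J _ _ => inferInstance⟩
  haveI : PreservesFiniteLimits E := comp_preservesFiniteLimits _ _
  have := ((IsPullback.of_hasPullback a b).map E).isIso_snd_of_isIso
  exact (ConcreteCategory.isIso_iff_bijective (C := AddCommGrpCat) (E.map (pullback.snd a b))).1 this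

/-- Injectivity and surjectivity up to powers give bijectivity on a basic open. -/
theorem bijective_app_basicOpen {M N : X.Modules} (hM : Coh.IsQCoh M) (hN : Coh.IsQCoh N) (φ : M ⟶ N)
    {V : X.Opens} (hV : IsAffineOpen V) (f : Γ(X, V))
    (hsurj : ∀ y : Γ(N, V), ∃ k : ℕ, f ^ k • y ∈ Set.range (φ.app V))
    (hinj : ∀ x : Γ(M, V), φ.app V x = 0 → ∃ k : ℕ, f ^ k • x = 0) :
    Function.Bijective (φ.app (X.basicOpen f)) := by
  letI := QCoh.basicModule f M
  letI := QCoh.basicModule f N
  haveI := QCoh.isLocalizedModule_basicRes f hM hV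
  haveI := QCoh.isLocalizedModule_basicRes f hN hV
  let r : Γ(M, X.basicOpen f) →ₗ[Γ(X, V)] Γ(N, X.basicOpen f) :=
    { toFun := φ.app (X.basicOpen f)
      map_add' := map_add _
      map_smul' := fun a x => φ.app_smul _ x }
  show Function.Bijective r
  have hr : ∀ x, r (QCoh.basicRes f M x) = QCoh.basicRes f N (φ.app V x) := fun x => QCoh.map_app_comm φ _ x
  refine ⟨(injective_iff_map_eq_zero r).2 fun x hx => ?_, fun y => ?_⟩
  · obtain ⟨⟨x', s⟩, rfl⟩ := IsLocalizedModule.mk'_surjective (Submonoid.powers f) (QCoh.basicRes f M) x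
    simp only [Function.uncurry_apply_pair] at hx ⊢
    rw [IsLocalizedModule.mk'_eq_zero'] at ⊢
    have : QCoh.basicRes f N (φ.app V x') = 0 := by
      rw [← hr, ← IsLocalizedModule.mk'_cancel' (QCoh.basicRes f M) x' s, Submonoid.smul_def, map_smul, hx, smul_zero]
    obtain ⟨⟨_, n, rfl⟩, hn⟩ := (IsLocalizedModule.eq_zero_iff (Submonoid.powers f) (QCoh.basicRes f N)).1 this
    obtain ⟨k, hk⟩ := hinj (f ^ n • x') ((φ.app_smul _ x').trans hn)
    exact ⟨⟨f ^ (k + n), k + n, rfl⟩, show f ^ (k + n) • x' = 0 by rw [pow_add, mul_smul, hk]⟩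
  · obtain ⟨⟨y', s⟩, rfl⟩ := IsLocalizedModule.mk'_surjective (Submonoid.powers f) (QCoh.basicRes f N) y
    obtain ⟨k, x, hx⟩ := hsurj y'
    refine ⟨IsLocalizedModule.mk' (QCoh.basicRes f M) x (⟨f ^ k, k, rfl⟩ * s), ?_⟩
    apply IsLocalizedModule.smul_injective (QCoh.basicRes f N) (⟨f ^ k, k, rfl⟩ * s)
    simp only [Function.uncurry_apply_pair]
    rw [Submonoid.smul_def, ← map_smul, ← Submonoid.smul_def, IsLocalizedModule.mk'_cancel', hr, hx, mul_smul, IsLocalizedModule.mk'_cancel']
    exact map_smul (QCoh.basicRes f N) (f ^ k) y'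

/-- Bijectivity on an affine gives an isomorphism on the chart. -/
theorem isIso_restrict_fromSpec {M N : X.Modules} (hM : Coh.IsQCoh M) (hN : Coh.IsQCoh N) (φ : M ⟶ N)
    {V : X.Opens} (hV : IsAffineOpen V) (h : Function.Bijective (φ.app V)) :
    IsIso ((Scheme.Modules.restrictFunctor hV.fromSpec).map φ) := by
  obtain ⟨e⟩ := LimModLib.nonempty_arrowIso_chart hV hM hN φ
  refine ((MorphismProperty.isomorphisms _).arrow_mk_iso_iff e).2 ?_
  let eM := QCoh.chartEquiv hV M
  let eN := QCoh.chartEquiv hV N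
  have key : ∀ x : Γ(M, V), ((LimModLib.chartΓ hV).map φ).hom (eM x) = eN (φ.app V x) := by
    intro x
    show φ.app (hV.fromSpec ''ᵁ ⊤) (M.presheaf.map (homOfLE (QCoh.image_top_fromSpec hV).le).op x) =
      N.presheaf.map (homOfLE (QCoh.image_top_fromSpec hV).le).op (φ.app V x)
    exact QCoh.map_app_comm φ _ x
  haveI : IsIso ((LimModLib.chartΓ hV).map φ) := by
    refine (ConcreteCategory.isIso_iff_bijective _).2 ?_
    have : ((LimModLib.chartΓ hV).map φ).hom ∘ eM = eN ∘ φ.app V := funext key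
    refine (Function.Bijective.of_comp_iff _ eM.bijective).1 ?_
    show Function.Bijective (((LimModLib.chartΓ hV).map φ).hom ∘ eM)
    rw [this]
    exact eN.bijective.comp h
  exact inferInstanceAs (IsIso ((tilde.functor Γ(X, V)).map ((LimModLib.chartΓ hV).map φ)))

/-- Bijectivity on sections is local on affines. -/
theorem bijective_app_of_cover {M N : X.Modules} (hM : Coh.IsQCoh M) (hN : Coh.IsQCoh N) (φ : M ⟶ N)
    {O : X.Opens} {ι : Type u} (D : ι → X.affineOpens) (hle : ∀ a, (D a).1 ≤ O) (hcov : O ≤ ⨆ a, (D a).1)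
    (h : ∀ a, Function.Bijective (φ.app (D a).1)) {O' : X.Opens} (hO' : O' ≤ O) :
    Function.Bijective (φ.app O') := by
  let R := Scheme.Modules.restrictFunctor O.ι
  haveI : IsIso (R.map φ) := by
    refine (LimModLib.isIso_iff_restrict (fun a => (D a).2.isoSpec.inv ≫ X.homOfLE (hle a)) (fun x => ?_) _).2
      fun a => ?_
    · obtain ⟨a, ha⟩ := Opens.mem_iSup.1 (hcov x.2)
      refine ⟨a, (D a).2.isoSpec.hom (⟨x.1, ha⟩ : (D a).1), ?_⟩
      show ((D a).2.isoSpec.hom ≫ (D a).2.isoSpec.inv ≫ X.homOfLE (hle a)).base _ = x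
      rw [Iso.hom_inv_id_assoc]
      exact Subtype.ext (congrArg (fun m : ((D a).1 : Scheme.{u}) ⟶ X => m.base ⟨x.1, ha⟩) (X.homOfLE_ι (hle a)))
    · let t := (Scheme.Modules.restrictFunctorComp ((D a).2.isoSpec.inv ≫ X.homOfLE (hle a)) O.ι).symm ≪≫
        Scheme.Modules.restrictFunctorCongr (show ((D a).2.isoSpec.inv ≫ X.homOfLE (hle a)) ≫ O.ι = (D a).2.fromSpec by
          rw [Category.assoc, Scheme.homOfLE_ι, IsAffineOpen.isoSpec_inv_ι])
      exact ((MorphismProperty.isomorphisms _).arrow_mk_iso_iff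
        (Arrow.isoMk (t.app M) (t.app N) (t.hom.naturality φ).symm)).2
          (isIso_restrict_fromSpec hM hN φ (D a).2 (h a))
  have := bijective_app_of_isIso (R.map φ) (O.ι ⁻¹ᵁ O')
  have e : O.ι ''ᵁ O.ι ⁻¹ᵁ O' = O' := by
    rw [Scheme.Hom.image_preimage_eq_opensRange_inf, Scheme.Opens.opensRange_ι, inf_eq_right.2 hO']
  change Function.Bijective (φ.app (O.ι ''ᵁ O.ι ⁻¹ᵁ O')) at this
  rwa [e] at this

end Groth.Agent.FPEnough
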