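import Mathlib

/-!
# Finitely presented modules approximating a module on finitely many localizations
-/

set_option autoImplicit false

universe u

open TensorProduct

namespace Groth.Agent.FPEnough

variable {A : Type u} [CommRing A] {M : Type u} [AddCommGroup M] [Module A M]

/-- A submodule with finitely generated localization agrees there with a finitely generated one. -/
theorem exists_finite_localized {N' : Type u} [AddCommGroup N'] [Module A N'] {N : Type u} [AddCommGroup N]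
    [Module A N] (S : Submonoid A) (R : Type u) [CommRing R] [Algebra A R] [IsLocalization S R]
    [Module R N'] [IsScalarTower A R N'] (l : N →ₗ[A] N') [IsLocalizedModule S l] (K : Submodule A N)
    (hK : (K.localized' R S l).FG) :
    ∃ T : Set N, T.Finite ∧ T ⊆ K ∧ ∀ k ∈ K, ∃ s ∈ S, s • k ∈ Submodule.span A T := by
  classical
  obtain ⟨Z, hZ⟩ := hK
  have : ∀ z : Z, ∃ k ∈ K, ∃ s : S, IsLocalizedModule.mk' l k s = z.1 := fun z =>
    (Submodule.mem_localized' R S l K z.1).1 (hZ ▸ Submodule.subset_span z.2)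
  choose k hk s hs using this
  refine ⟨Set.range k, Set.finite_range k, by rintro _ ⟨z, rfl⟩; exact hk z, fun x hx => ?_⟩
  have hle : K.localized' R S l ≤ (Submodule.span A (Set.range k)).localized' R S l := by
    rw [← hZ, Submodule.span_le]
    exact fun z hz => (Submodule.mem_localized' R S l _ z).2
      ⟨k ⟨z, hz⟩, Submodule.subset_span ⟨_, rfl⟩, s ⟨z, hz⟩, hs ⟨z, hz⟩⟩
  have hmem : IsLocalizedModule.mk' l x (1 : S) ∈ K.localized' R S l :=
    (Submodule.mem_localized' R S l K _).2 ⟨x, hx, 1, rfl⟩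
  obtain ⟨m, hm, t, ht⟩ := (Submodule.mem_localized' R S l _ _).1 (hle hmem)
  rw [IsLocalizedModule.mk'_eq_mk'_iff] at ht
  obtain ⟨c, hc⟩ := ht
  refine ⟨(c : A) * t, S.mul_mem c.2 t.2, ?_⟩
  have : (c : A) • (t : A) • x = (c : A) • m := by
    simpa [Submonoid.smul_def] using hc
  rw [mul_smul, this]
  exact Submodule.smul_mem _ _ hm

/-- A module which is finitely presented after inverting some elements is approximated by a finitely presented one. -/
theorem exists_fp_cover {ι : Type u} [Finite ι] (f : ι → A) (R : ι → Type u) [∀ i, CommRing (R i)]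
    [∀ i, Algebra A (R i)] [∀ i, IsLocalization.Away (f i) (R i)] (L : ι → Type u) [∀ i, AddCommGroup (L i)]
    [∀ i, Module A (L i)] [∀ i, Module (R i) (L i)] [∀ i, IsScalarTower A (R i) (L i)]
    (l : ∀ i, M →ₗ[A] L i) [∀ i, IsLocalizedModule (Submonoid.powers (f i)) (l i)]
    [∀ i, Module.FinitePresentation (R i) (L i)] {S : Set M} (hS : S.Finite) :
    ∃ (n : ℕ) (K : Submodule A (Fin n → A)) (h : ((Fin n → A) ⧸ K) →ₗ[A] M), K.FG ∧ S ⊆ Set.range h ∧
      ∀ i, (∀ m, ∃ k : ℕ, f i ^ k • m ∈ LinearMap.range h) ∧ ∀ x, h x = 0 → ∃ k : ℕ, f i ^ k • x = 0 := by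
  classical
  -- finitely many elements spanning all the localizations
  have hgen : ∀ i, ∃ G : Set M, G.Finite ∧ ∀ m, ∃ k : ℕ, f i ^ k • m ∈ Submodule.span A G := fun i => by
    obtain ⟨T, hT, -, hT'⟩ := exists_finite_localized (Submonoid.powers (f i)) (R i) (l i) ⊤
      (by rw [Submodule.localized'_top]; exact Module.Finite.fg_top)
    refine ⟨T, hT, fun m => ?_⟩
    obtain ⟨_, ⟨k, rfl⟩, hk⟩ := hT' m trivial
    exact ⟨k, hk⟩
  choose G hG hG' using hgen
  let T : Set M := S ∪ ⋃ i, G i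
  have hT : T.Finite := hS.union (Set.finite_iUnion hG)
  obtain ⟨n, g, -, hg⟩ := hT.fin_param
  let h₀ : (Fin n → A) →ₗ[A] M := (Pi.basisFun A (Fin n)).constr A g
  have hTh : T ⊆ Set.range h₀ := by
    intro t ht
    rw [← hg] at ht
    obtain ⟨r, rfl⟩ := ht
    exact ⟨Pi.basisFun A (Fin n) r, Module.Basis.constr_basis _ _ _ _⟩
  have hsurj : ∀ i m, ∃ k : ℕ, f i ^ k • m ∈ LinearMap.range h₀ := fun i m => by
    obtain ⟨k, hk⟩ := hG' i m
    exact ⟨k, Submodule.span_le.2 (fun x hx => hTh (Set.mem_union_right _ (Set.mem_iUnion.2 ⟨i, hx⟩))) hk⟩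
  have hker : ∀ i, ∃ Z : Set (Fin n → A), Z.Finite ∧ Z ⊆ LinearMap.ker h₀ ∧
      ∀ x ∈ LinearMap.ker h₀, ∃ k : ℕ, f i ^ k • x ∈ Submodule.span A Z := fun i => by
    let S' := Submonoid.powers (f i)
    let m₀ := TensorProduct.mk A (R i) (Fin n → A) 1
    let φ := LinearMap.extendScalarsOfIsLocalization S' (R i) (IsLocalizedModule.map S' m₀ (l i) h₀)
    have hφ : Function.Surjective φ := fun y => by
      obtain ⟨⟨m, s⟩, rfl⟩ := IsLocalizedModule.mk'_surjective S' (l i) y
      obtain ⟨k, x, hx⟩ := hsurj i m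
      refine ⟨IsLocalizedModule.mk' m₀ x (⟨f i ^ k, k, rfl⟩ * s), ?_⟩
      show IsLocalizedModule.map S' m₀ (l i) h₀ (IsLocalizedModule.mk' m₀ x _) = _
      rw [IsLocalizedModule.map_mk', hx, show f i ^ k • m = (⟨f i ^ k, k, rfl⟩ : S') • m from rfl,
        IsLocalizedModule.mk'_cancel_left]
      rfl
    have hfg : ((LinearMap.ker h₀).localized' (R i) S' m₀).FG := by
      rw [LinearMap.localized'_ker_eq_ker_localizedMap (R i) S' m₀ (l i) h₀]
      exact Module.FinitePresentation.fg_ker _ hφ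
    obtain ⟨Z, hZ, hZK, hZ'⟩ := exists_finite_localized S' (R i) m₀ (LinearMap.ker h₀) hfg
    refine ⟨Z, hZ, hZK, fun x hx => ?_⟩
    obtain ⟨_, ⟨k, rfl⟩, hk⟩ := hZ' x hx
    exact ⟨k, hk⟩
  choose Z hZ hZK hZ' using hker
  let K : Submodule A (Fin n → A) := Submodule.span A (⋃ i, Z i)
  have hK : K ≤ LinearMap.ker h₀ := Submodule.span_le.2 (Set.iUnion_subset hZK)
  refine ⟨n, K, K.liftQ h₀ hK, Submodule.fg_span (Set.finite_iUnion hZ), fun s hs => ?_, fun i => ⟨fun m => ?_, ?_⟩⟩
  · obtain ⟨x, hx⟩ := hTh (Set.mem_union_left _ hs)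
    exact ⟨Submodule.Quotient.mk x, hx⟩
  · obtain ⟨k, x, hx⟩ := hsurj i m
    exact ⟨k, Submodule.Quotient.mk x, hx⟩
  · intro x hx
    induction x using Submodule.Quotient.induction_on with
    | H x =>
      obtain ⟨k, hk⟩ := hZ' i x hx
      refine ⟨k, ?_⟩
      rw [← Submodule.Quotient.mk_smul, Submodule.Quotient.mk_eq_zero]
      exact Submodule.span_mono (Set.subset_iUnion Z i) hk

end Groth.Agent.FPEnough
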