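import Groth.Agent.FPEnough.Step

/-!
# Enough modules of finite presentation on quasi-compact quasi-separated schemes
-/

set_option autoImplicit false
set_option backward.isDefEq.respectTransparency false
set_option backward.isDefEq.respectTransparency.types false

universe u

open CategoryTheory CategoryTheory.Limits AlgebraicGeometry Opposite TopologicalSpace

namespace Groth.Agent.FPEnough

variable {X : Scheme.{u}} [QuasiSeparatedSpace X]

theorem exists_fpOn_finset {G : X.Modules} (hG : Coh.IsQCoh G) (V : X.affineOpens) {S : Set Γ(G, V.1)}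
    (hS : S.Finite) (t : Finset X.affineOpens) :
    ∃ (H : X.Modules) (ψ : H ⟶ G), Coh.IsQCoh H ∧ S ⊆ Set.range (ψ.app V.1) ∧
      ∀ a ∈ insert V (t : Set X.affineOpens), Module.FinitePresentation Γ(X, a.1) Γ(H, a.1) := by
  classical
  induction t using Finset.induction with
  | empty =>
    obtain ⟨H, ψ, hH, -, hfp, hSψ⟩ := exists_step hG (fun a : PEmpty.{u + 1} => (PEmpty.elim a : X.affineOpens))
      (fun a => PEmpty.elim a) V hS
    exact ⟨H, ψ, hH, hSψ, fun a ha => by simp at ha; exact ha ▸ hfp⟩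
  | insert W t _ ih =>
    obtain ⟨P, φ, hP, hSφ, hfp⟩ := ih
    have hfin : (insert V (t : Set X.affineOpens)).Finite := t.finite_toSet.insert V
    haveI : Finite (insert V (t : Set X.affineOpens) : Set X.affineOpens) := hfin.to_subtype
    obtain ⟨H, ψ, hH, hbij, hW, -⟩ := exists_step hP (fun a : (insert V (t : Set X.affineOpens) : Set X.affineOpens) => a.1)
      (fun a => hfp a.1 a.2) W (S := ∅) Set.finite_empty
    have hold : ∀ a ∈ insert V (t : Set X.affineOpens), Module.FinitePresentation Γ(X, a.1) Γ(H, a.1) := fun a ha =>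
      haveI := hfp a ha
      finitePresentation_of_bijective ψ a.1 (hbij ⟨a, ha⟩)
    refine ⟨H, ψ ≫ φ, hH, fun s hs => ?_, fun a ha => ?_⟩
    · obtain ⟨y, rfl⟩ := hSφ hs
      obtain ⟨x, rfl⟩ := (hbij ⟨V, Set.mem_insert V _⟩).2 y
      exact ⟨x, rfl⟩
    · rw [Finset.coe_insert, Set.insert_comm] at ha
      rcases ha with rfl | ha
      · exact hW
      · exact hold a ha

variable [CompactSpace X]

omit [QuasiSeparatedSpace X] in
theorem exists_finite_affine_cover : ∃ t : Finset X.affineOpens, ∀ x : X, ∃ a ∈ t, x ∈ a.1 := by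
  classical
  have h : ∀ x : X, ∃ a : X.affineOpens, x ∈ a.1 := fun x => by
    obtain ⟨_, ⟨U, hU, rfl⟩, hx, -⟩ := X.isBasis_affineOpens.exists_subset_of_mem_open (Set.mem_univ x) isOpen_univ
    exact ⟨⟨U, hU⟩, hx⟩
  choose a ha using h
  obtain ⟨s, hs⟩ := isCompact_univ.elim_finite_subcover (fun x => ((a x).1 : Set X)) (fun x => (a x).1.2)
    fun x _ => Set.mem_iUnion.2 ⟨x, ha x⟩
  refine ⟨s.image a, fun x => ?_⟩
  obtain ⟨y, hy, hxy⟩ := Set.mem_iUnion₂.1 (hs (Set.mem_univ x))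
  exact ⟨a y, Finset.mem_image_of_mem a hy, hxy⟩

/-- Finitely many sections on an affine come from a module of finite presentation. -/
theorem exists_isFP_range {G : X.Modules} (hG : Coh.IsQCoh G) (V : X.affineOpens) {S : Set Γ(G, V.1)}
    (hS : S.Finite) :
    ∃ (H : X.Modules) (ψ : H ⟶ G), Coh.IsQCoh H ∧ CohB1.IsFP H ∧ S ⊆ Set.range (ψ.app V.1) := by
  obtain ⟨t, ht⟩ := exists_finite_affine_cover (X := X)
  obtain ⟨H, ψ, hH, hSψ, hfp⟩ := exists_fpOn_finset hG V hS t
  refine ⟨H, ψ, hH, ?_, hSψ⟩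
  refine QCoh.isFP_of_finitePresentation hH (fun a : t => a.1.1) ?_ (fun a => a.1.2)
    fun a => hfp a.1 (Set.mem_insert_of_mem _ a.2)
  exact top_le_iff.1 fun x _ => by
    obtain ⟨a, ha, hx⟩ := ht x
    exact Opens.mem_iSup.2 ⟨⟨a, ha⟩, hx⟩

omit [QuasiSeparatedSpace X] [CompactSpace X] in
theorem isFP_biprod {M N : X.Modules} (hM : Coh.IsQCoh M) (hMfp : CohB1.IsFP M) (hN : Coh.IsQCoh N)
    (hNfp : CohB1.IsFP N) : Coh.IsQCoh (M ⊞ N) ∧ CohB1.IsFP (M ⊞ N) := by
  have hq : Coh.IsQCoh (M ⊞ N) := QCoh.isQCoh_X₂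
    (S := ShortComplex.mk (biprod.inl : M ⟶ M ⊞ N) biprod.snd biprod.inl_snd)
    (ShortComplex.Splitting.ofHasBinaryBiproduct _ _).shortExact hM hN
  refine ⟨hq, (QCoh.isFP_iff hq).2 fun U => ?_⟩
  haveI := QCoh.finitePresentation_of_isFP hMfp U.2
  haveI := QCoh.finitePresentation_of_isFP hNfp U.2
  let f := (QCoh.appLin (biprod.fst : M ⊞ N ⟶ M) U.1).prod (QCoh.appLin (biprod.snd : M ⊞ N ⟶ N) U.1)
  have hf : Function.Bijective f := by
    refine Function.bijective_iff_has_inverse.2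
      ⟨fun p => (biprod.inl : M ⟶ M ⊞ N).app U.1 p.1 + (biprod.inr : N ⟶ M ⊞ N).app U.1 p.2, fun x => ?_, fun p => ?_⟩
    · exact congr(($(biprod.total (X := M) (Y := N))).app U.1 x)
    · refine Prod.ext ?_ ?_
      · show (biprod.fst : M ⊞ N ⟶ M).app U.1 (_ + _) = p.1
        rw [map_add]
        refine (congrArg₂ (· + ·) (congr(($(biprod.inl_fst (X := M) (Y := N))).app U.1 p.1))
          (congr(($(biprod.inr_fst (X := M) (Y := N))).app U.1 p.2))).trans ?_
        exact add_zero _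
      · show (biprod.snd : M ⊞ N ⟶ N).app U.1 (_ + _) = p.2
        rw [map_add]
        refine (congrArg₂ (· + ·) (congr(($(biprod.inl_snd (X := M) (Y := N))).app U.1 p.1))
          (congr(($(biprod.inr_snd (X := M) (Y := N))).app U.1 p.2))).trans ?_
        exact zero_add _
  exact Module.FinitePresentation.of_equiv (LinearEquiv.ofBijective f hf).symm

/-- A quasi-coherent module of finite type is a quotient of one of finite presentation. -/
theorem exists_epi_isFP {G : X.Modules} (hG : Coh.IsQCoh G) (hft : CohB1.IsFT G) :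
    ∃ (H : X.Modules) (ψ : H ⟶ G), Coh.IsQCoh H ∧ CohB1.IsFP H ∧ Epi ψ := by
  classical
  obtain ⟨t, ht⟩ := exists_finite_affine_cover (X := X)
  suffices h : ∀ s : Finset X.affineOpens, ∃ (H : X.Modules) (ψ : H ⟶ G), Coh.IsQCoh H ∧ CohB1.IsFP H ∧
      ∀ a ∈ s, Function.Surjective (ψ.app a.1) by
    obtain ⟨H, ψ, hH, hfp, hsurj⟩ := h t
    refine ⟨H, ψ, hH, hfp, Abelian.epi_of_cokernel_π_eq_zero ψ ?_⟩
    refine QCoh.hom_eq_zero_of_cover hG (QCoh.isQCoh_cokernel hH hG ψ) _ (fun a : t => a.1.1) (fun a => a.1.2)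
      (fun x => by obtain ⟨a, ha, hx⟩ := ht x; exact ⟨⟨a, ha⟩, hx⟩) fun a y => ?_
    obtain ⟨z, rfl⟩ := hsurj a.1 a.2 y
    exact congr(($(cokernel.condition ψ)).app a.1.1 z)
  intro s
  induction s using Finset.induction with
  | empty =>
    obtain ⟨H, ψ, hH, hfp, -⟩ := exists_isFP_range hG ⟨⊥, isAffineOpen_bot X⟩ (S := ∅) Set.finite_empty
    exact ⟨H, ψ, hH, hfp, fun a ha => by simp at ha⟩
  | insert W s _ ih =>
    obtain ⟨H, ψ, hH, hfp, hsurj⟩ := ih
    haveI := QCoh.finite_of_isFT hG hft W.2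
    obtain ⟨T, hT⟩ := Module.Finite.fg_top (R := Γ(X, W.1)) (M := Γ(G, W.1))
    obtain ⟨H', ψ', hH', hfp', hT'⟩ := exists_isFP_range hG W T.finite_toSet
    have hW : Function.Surjective (ψ'.app W.1) := fun y => by
      have hy : y ∈ Submodule.span Γ(X, W.1) (T : Set Γ(G, W.1)) := hT ▸ trivial
      have hle : Submodule.span Γ(X, W.1) (T : Set Γ(G, W.1)) ≤ LinearMap.range (QCoh.appLin ψ' W.1) :=
        Submodule.span_le.2 fun z hz => hT' hz
      exact hle hy
    obtain ⟨hq, hfp''⟩ := isFP_biprod hH hfp hH' hfp'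
    refine ⟨H ⊞ H', biprod.desc ψ ψ', hq, hfp'', fun a ha y => ?_⟩
    rcases Finset.mem_insert.1 ha with rfl | ha
    · obtain ⟨x, hx⟩ := hW y
      exact ⟨(biprod.inr : H' ⟶ H ⊞ H').app a.1 x, (congr(($(biprod.inr_desc ψ ψ')).app a.1 x)).trans hx⟩
    · obtain ⟨x, hx⟩ := hsurj a ha y
      exact ⟨(biprod.inl : H ⟶ H ⊞ H').app a.1 x, (congr(($(biprod.inl_desc ψ ψ')).app a.1 x)).trans hx⟩

end Groth.Agent.FPEnough
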