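import Groth.Agent.FPEnough.SecColim
import Groth.Agent.FPEnough.Quot
import Groth.Agent.LimModLib.LHom
import Groth.Agent.FPEnough.Colim
import Groth.Prelude.Def_QCohCat
import Mathlib.CategoryTheory.Presentable.Finite

/-!
# Morphisms out of a module of finite presentation into a filtered colimit
-/

set_option autoImplicit false
set_option backward.isDefEq.respectTransparency false
set_option backward.isDefEq.respectTransparency.types false

universe u

open CategoryTheory CategoryTheory.Limits AlgebraicGeometry Opposite TopologicalSpace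

namespace Groth.Agent.FPEnough

variable {X : Scheme.{u}} {J : Type u} [SmallCategory J] [IsFiltered J] {G : J ⥤ X.Modules} {c : Cocone G}

theorem exists_kill_family (hG : ∀ j, Coh.IsQCoh (G.obj j)) (hc : IsColimit c) {j : J} {κ : Type*}
    (V : κ → X.affineOpens) (s : Finset κ) (y : ∀ a, Γ(G.obj j, (V a).1))
    (hy : ∀ a ∈ s, (c.ι.app j).app (V a).1 (y a) = 0) :
    ∃ (k : J) (g : j ⟶ k), ∀ a ∈ s, (G.map g).app (V a).1 (y a) = 0 := by
  classical
  induction s using Finset.induction with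
  | empty => exact ⟨j, 𝟙 j, by simp⟩
  | insert a s ha ih =>
    obtain ⟨k, g, hg⟩ := ih fun b hb => hy b (Finset.mem_insert_of_mem hb)
    obtain ⟨l, g', hl⟩ := (sections_colimit hG hc (V a).2).2 k ((G.map g).app (V a).1 (y a))
      ((congr(($(c.w g)).app (V a).1 (y a)) : _).trans (hy a (Finset.mem_insert_self a s)))
    refine ⟨l, g ≫ g', fun b hb => ?_⟩
    rw [G.map_comp]
    show (G.map g').app (V b).1 ((G.map g).app (V b).1 (y b)) = 0
    rcases Finset.mem_insert.1 hb with rfl | hb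
    · exact hl
    · rw [hg b hb, map_zero]

theorem exists_local_lift (hG : ∀ j, Coh.IsQCoh (G.obj j)) (hc : IsColimit c) {F : X.Modules}
    (V : X.affineOpens) [Module.FinitePresentation Γ(X, V.1) Γ(F, V.1)] (h : F ⟶ c.pt) :
    ∃ (j : J) (ℓ : Γ(F, V.1) →ₗ[Γ(X, V.1)] Γ(G.obj j, V.1)),
      ∀ x, (c.ι.app j).app V.1 (ℓ x) = h.app V.1 x := by
  classical
  obtain ⟨n, K, e, ⟨s, hs⟩⟩ := Module.FinitePresentation.exists_fin Γ(X, V.1) Γ(F, V.1)
  let q : (Fin n → Γ(X, V.1)) →ₗ[Γ(X, V.1)] Γ(F, V.1) := e.symm.toLinearMap ∘ₗ K.mkQ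
  choose jr y hy using fun r : Fin n => (sections_colimit hG hc V.2).1 (h.app V.1 (q (Pi.single r 1)))
  obtain ⟨k, hk⟩ := IsFiltered.sup_objs_exists (Finset.univ.image jr)
  let t : ∀ r, jr r ⟶ k := fun r => (hk (Finset.mem_image_of_mem jr (Finset.mem_univ r))).some
  let f : (Fin n → Γ(X, V.1)) →ₗ[Γ(X, V.1)] Γ(G.obj k, V.1) :=
    (Pi.basisFun Γ(X, V.1) (Fin n)).constr Γ(X, V.1) fun r => (G.map (t r)).app V.1 (y r)
  have hf : ∀ v, (c.ι.app k).app V.1 (f v) = h.app V.1 (q v) := by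
    intro v
    have : QCoh.appLin (c.ι.app k) V.1 ∘ₗ f = QCoh.appLin h V.1 ∘ₗ q := by
      refine (Pi.basisFun Γ(X, V.1) (Fin n)).ext fun r => ?_
      show (c.ι.app k).app V.1 (f (Pi.basisFun Γ(X, V.1) (Fin n) r)) = h.app V.1 (q (Pi.basisFun Γ(X, V.1) (Fin n) r))
      simp only [f]
      rw [Module.Basis.constr_basis, Pi.basisFun_apply]
      exact (congr(($(c.w (t r))).app V.1 (y r)) : _).trans (hy r)
    exact LinearMap.congr_fun this v
  obtain ⟨l, g, hl⟩ := exists_kill_family hG hc (fun _ : Fin n → Γ(X, V.1) => V) s (fun v => f v) fun v hv => by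
    have : K.mkQ v = 0 := (Submodule.Quotient.mk_eq_zero K).2 (hs ▸ Submodule.subset_span hv)
    rw [hf, show q v = e.symm (K.mkQ v) from rfl, this, map_zero, map_zero]
  have hle : K ≤ LinearMap.ker (QCoh.appLin (G.map g) V.1 ∘ₗ f) := by
    rw [← hs, Submodule.span_le]
    exact fun v hv => LinearMap.mem_ker.2 (hl v hv)
  refine ⟨l, K.liftQ (QCoh.appLin (G.map g) V.1 ∘ₗ f) hle ∘ₗ e.toLinearMap, fun m => ?_⟩
  obtain ⟨v, hv⟩ := K.mkQ_surjective (e m)
  rw [LinearMap.comp_apply, LinearEquiv.coe_coe, ← hv, Submodule.mkQ_apply, Submodule.liftQ_apply,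
    LinearMap.comp_apply]
  refine (congr(($(c.w g)).app V.1 (f v)) : _).trans ((hf v).trans ?_)
  exact congrArg (h.app V.1) ((congrArg e.symm hv).trans (e.symm_apply_apply m))

/-- Equalities of morphisms out of a module of finite type descend to a stage. -/
theorem exists_eq_of_comp_eq [CompactSpace X] (hG : ∀ j, Coh.IsQCoh (G.obj j)) (hc : IsColimit c)
    {F : X.Modules} (hF : Coh.IsQCoh F) (hft : CohB1.IsFT F) {j : J} (f f' : F ⟶ G.obj j)
    (h : f ≫ c.ι.app j = f' ≫ c.ι.app j) : ∃ (k : J) (g : j ⟶ k), f ≫ G.map g = f' ≫ G.map g := by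
  classical
  obtain ⟨t, ht⟩ := exists_finite_affine_cover (X := X)
  haveI := fun a : t => QCoh.finite_of_isFT hF hft a.1.2
  choose n v hv using fun a : t => Module.Finite.exists_fin (R := Γ(X, a.1.1)) (M := Γ(F, a.1.1))
  obtain ⟨k, g, hg⟩ := exists_kill_family hG hc (fun p : Σ a : t, Fin (n a) => p.1.1) Finset.univ
    (fun p => (f - f').app p.1.1.1 (v p.1 p.2)) fun p _ => by
      have h0 : (f - f') ≫ c.ι.app j = 0 := by rw [Preadditive.sub_comp, h, sub_self]
      exact congr(($h0).app p.1.1.1 (v p.1 p.2))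
  refine ⟨k, g, sub_eq_zero.1 ?_⟩
  rw [← Preadditive.sub_comp]
  refine QCoh.hom_eq_zero_of_cover hF (hG k) _ (fun a : t => a.1.1) (fun a => a.1.2)
    (fun x => by obtain ⟨a, ha, hx⟩ := ht x; exact ⟨⟨a, ha⟩, hx⟩) fun a x => ?_
  have hle : Submodule.span Γ(X, a.1.1) (Set.range (v a)) ≤
      LinearMap.ker (QCoh.appLin ((f - f') ≫ G.map g) a.1.1) := by
    rw [Submodule.span_le]
    rintro _ ⟨r, rfl⟩
    exact LinearMap.mem_ker.2 (hg ⟨a, r⟩ (Finset.mem_univ _))
  exact hle (show x ∈ Submodule.span Γ(X, a.1.1) (Set.range (v a)) from (hv a).ge Submodule.mem_top)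

set_option maxHeartbeats 1600000 in
/-- A morphism from a module of finite presentation to a filtered colimit factors through a stage. -/
theorem exists_lift [CompactSpace X] [QuasiSeparatedSpace X] (hG : ∀ j, Coh.IsQCoh (G.obj j)) (hc : IsColimit c)
    {F : X.Modules} (hF : Coh.IsQCoh F) (hfp : CohB1.IsFP F) (h : F ⟶ c.pt) :
    ∃ (j : J) (f : F ⟶ G.obj j), f ≫ c.ι.app j = h := by
  classical
  obtain ⟨t, ht⟩ := exists_finite_affine_cover (X := X)
  have hU : ∀ x : X, ∃ a : t, x ∈ a.1.1 := fun x => by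
    obtain ⟨a, ha, hx⟩ := ht x; exact ⟨⟨a, ha⟩, hx⟩
  haveI := fun a : t => QCoh.finitePresentation_of_isFP hfp a.1.2
  choose jl ℓ hℓ using fun a : t => exists_local_lift hG hc a.1 h
  choose l₀ hl₀ using fun a => LimModLib.LHom.exists_of_top hF a.1.2 (ℓ a)
  obtain ⟨k₀, hk₀⟩ := IsFiltered.sup_objs_exists (Finset.univ.image jl)
  let gl : ∀ a, jl a ⟶ k₀ := fun a => (hk₀ (Finset.mem_image_of_mem jl (Finset.mem_univ a))).some
  let push : ∀ {P P' : X.Modules} (φ : P ⟶ P') {W : X.Opens}, LimModLib.LHom F P W → LimModLib.LHom F P' W :=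
    fun φ _ l => LimModLib.LHom.map (fun V => AddMonoidHom.mk' (φ.app V) (map_add _))
      (fun V r y => φ.app_smul r y) (fun V W h y => (QCoh.map_app_comm φ (homOfLE h) y).symm) l
  let l₁ : ∀ a : t, LimModLib.LHom F (G.obj k₀) a.1.1 := fun a => push (G.map (gl a)) (l₀ a)
  have hlim : ∀ (a : t) (V : X.Opens) (hV : V ≤ a.1.1) x,
      (c.ι.app k₀).app V ((l₁ a).app V hV x) = h.app V x := by
    intro a V hV x
    refine LimModLib.LHom.ext_top hF a.1.2 (push (c.ι.app k₀) (l₁ a)) (LimModLib.LHom.ofHom h a.1.1) (fun y => ?_) V hV x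
    show (c.ι.app k₀).app _ ((G.map (gl a)).app _ ((l₀ a).app _ le_rfl y)) = h.app _ y
    rw [hl₀]
    exact (congr(($(c.w (gl a))).app a.1.1 (ℓ a y)) : _).trans (hℓ a y)
  -- the overlaps
  choose T hTf hT using fun p : t × t => (isCompact_iff_finite_and_eq_biUnion_affineOpens
    (U := p.1.1.1 ⊓ p.2.1.1)).1
      (QuasiSeparatedSpace.inter_isCompact _ _ p.1.1.1.2 p.1.1.2.isCompact p.2.1.1.2 p.2.1.2.isCompact)
  have hTle : ∀ p, ∀ V ∈ T p, V.1 ≤ p.1.1.1 ⊓ p.2.1.1 := fun p V hV =>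
    (le_biSup (fun V : X.affineOpens => V.1) hV).trans (hT p).ge
  haveI : ∀ p, Finite (T p : Set _) := fun p => (hTf p).to_subtype
  haveI : Fintype (Σ p : t × t, (T p : Set _)) := Fintype.ofFinite _
  haveI := fun o : Σ p : t × t, (T p : Set _) => QCoh.finitePresentation_of_isFP hfp o.2.1.2
  choose n v hv using fun o : Σ p : t × t, (T p : Set _) =>
    Module.Finite.exists_fin (R := Γ(X, o.2.1.1)) (M := Γ(F, o.2.1.1))
  obtain ⟨k, g, hg⟩ := exists_kill_family hG hc (fun q : Σ o : (Σ p : t × t, (T p : Set _)), Fin (n o) => q.1.2.1)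
    Finset.univ
    (fun q => (l₁ q.1.1.1).app q.1.2.1.1 ((hTle _ _ q.1.2.2).trans inf_le_left) (v q.1 q.2) -
      (l₁ q.1.1.2).app q.1.2.1.1 ((hTle _ _ q.1.2.2).trans inf_le_right) (v q.1 q.2))
    fun q _ => by rw [map_sub, hlim, hlim, sub_self]
  let l₂ : ∀ a : t, LimModLib.LHom F (G.obj k) a.1.1 := fun a => push (G.map g) (l₁ a)
  have hagree : ∀ (o : Σ p : t × t, (T p : Set _)) x,
      ((l₂ o.1.1).res ((hTle _ _ o.2.2).trans inf_le_left : o.2.1.1 ≤ _)).top x =
        ((l₂ o.1.2).res ((hTle _ _ o.2.2).trans inf_le_right : o.2.1.1 ≤ _)).top x := by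
    intro o
    refine LinearMap.congr_fun (LinearMap.ext_on_range (hv o) fun r => ?_)
    have := hg ⟨o, r⟩ (Finset.mem_univ _)
    rw [map_sub, sub_eq_zero] at this
    exact this
  obtain ⟨φ, hφ⟩ := LimModLib.LHom.exists_glue (fun a : t => a.1.1) hU l₂ fun a b V hV hV' x => by
    refine LimModLib.LHom.eq_of_cover (l₂ a) (l₂ b) (fun V : (T (a, b) : Set _) => V.1.1) ?_
      (fun V => hTle (a, b) _ V.2) (fun V' W hW y => ?_) V hV hV' x
    · intro y hy
      obtain ⟨V', hV'⟩ := Opens.mem_iSup.1 ((hT (a, b)).le hy)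
      obtain ⟨hV', hyV⟩ := Opens.mem_iSup.1 hV'
      exact Opens.mem_iSup.2 ⟨⟨V', hV'⟩, hyV⟩
    · exact LimModLib.LHom.ext_top hF V'.1.2 ((l₂ a).res ((hTle (a, b) _ V'.2).trans inf_le_left))
        ((l₂ b).res ((hTle (a, b) _ V'.2).trans inf_le_right)) (fun z => hagree ⟨(a, b), V'⟩ z) W hW y
  refine ⟨k, φ, sub_eq_zero.1 ?_⟩
  refine LimModLib.eq_zero_of_restrict (fun a : t => a.1.1.ι)
    (fun x => by obtain ⟨a, ha⟩ := hU x; exact ⟨a, ⟨x, ha⟩, rfl⟩) _ fun a => ?_
  refine Scheme.Modules.hom_ext _ _ fun W => ?_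
  ext x
  have hle : a.1.1.ι ''ᵁ W ≤ a.1.1 := by
    refine le_trans (Scheme.Hom.image_le_opensRange _ _) ?_
    rw [Scheme.Opens.opensRange_ι]
  have key : (c.ι.app k).app (a.1.1.ι ''ᵁ W) (φ.app _ x) = h.app (a.1.1.ι ''ᵁ W) x := by
    rw [hφ a _ hle, ← hlim a _ hle x]
    exact congr(($(c.w g)).app (a.1.1.ι ''ᵁ W) ((l₁ a).app _ hle x))
  exact sub_eq_zero.2 key

end Groth.Agent.FPEnough

namespace Groth.Agent.FPEnough

variable {X : Scheme.{u}}

/-- The inclusion of quasi-coherent modules preserves small colimits. -/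
theorem preservesColimit_ι {J : Type u} [SmallCategory J] (K : J ⥤ QCohCat.QCoh X) :
    PreservesColimit K (QCohCat.isQCoh X).ι := by
  let G := K ⋙ (QCohCat.isQCoh X).ι
  have q : QCohCat.isQCoh X (colimit G) := QCoh.isQCoh_colimit G fun j => (K.obj j).property
  let d : Cocone K :=
    { pt := ⟨colimit G, q⟩
      ι := { app := fun j => ObjectProperty.homMk (colimit.ι G j)
             naturality := fun i j f => by
              ext1
              exact (colimit.w G f).trans (Category.comp_id _).symm } }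
  have hd : IsColimit ((QCohCat.isQCoh X).ι.mapCocone d) :=
    (colimit.isColimit G).ofIsoColimit (Cocone.ext (Iso.refl _) fun j => Category.comp_id _)
  exact preservesColimit_of_preserves_colimit_cocone (isColimitOfReflects _ hd) hd

theorem isFinitelyPresentable_of_isFP [CompactSpace X] [QuasiSeparatedSpace X] (F : QCohCat.QCoh X)
    (hfp : CohB1.IsFP F.obj) : IsFinitelyPresentable.{u} F := by
  rw [isFinitelyPresentable_iff_preservesFilteredColimitsOfSize]
  refine ⟨fun J _ _ => ⟨fun {K} => ⟨fun {c} hc => ⟨Types.FilteredColimit.isColimitOf _ _ (fun h => ?_)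
    (fun i j xi xj h => ?_)⟩⟩⟩⟩
  · haveI := preservesColimit_ι K
    have hc' := isColimitOfPreserves (QCohCat.isQCoh X).ι hc
    obtain ⟨j, f, hf⟩ := exists_lift (G := K ⋙ (QCohCat.isQCoh X).ι) (fun j => (K.obj j).property) hc'
      F.property hfp h.hom
    exact ⟨j, ObjectProperty.homMk f, ObjectProperty.hom_ext _ hf.symm⟩
  · haveI := preservesColimit_ι K
    have hc' := isColimitOfPreserves (QCohCat.isQCoh X).ι hc
    obtain ⟨k, ⟨u⟩, ⟨v⟩⟩ : ∃ k, Nonempty (i ⟶ k) ∧ Nonempty (j ⟶ k) :=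
      ⟨IsFiltered.max i j, ⟨IsFiltered.leftToMax i j⟩, ⟨IsFiltered.rightToMax i j⟩⟩
    have h' : (xi ≫ K.map u).hom ≫ (c.ι.app k).hom = (xj ≫ K.map v).hom ≫ (c.ι.app k).hom := by
      have e : (xi ≫ K.map u) ≫ c.ι.app k = (xj ≫ K.map v) ≫ c.ι.app k := by
        rw [Category.assoc, c.w, Category.assoc, c.w]
        exact h
      exact congrArg InducedCategory.Hom.hom e
    obtain ⟨l, g, hg⟩ := exists_eq_of_comp_eq (G := K ⋙ (QCohCat.isQCoh X).ι) (fun j => (K.obj j).property) hc'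
      F.property (LimModLib.isFT_of_isFP F.property hfp) (xi ≫ K.map u).hom (xj ≫ K.map v).hom h'
    refine ⟨l, u ≫ g, v ≫ g, ?_⟩
    show xi ≫ K.map (u ≫ g) = xj ≫ K.map (v ≫ g)
    rw [K.map_comp, K.map_comp, ← Category.assoc, ← Category.assoc]
    exact ObjectProperty.hom_ext _ hg

theorem isFP_of_retract {H F : X.Modules} (hH : Coh.IsQCoh H) (hfp : CohB1.IsFP H) (hF : Coh.IsQCoh F)
    (p : H ⟶ F) (s : F ⟶ H) (hs : s ≫ p = 𝟙 F) : CohB1.IsFP F := by
  let e := 𝟙 H - p ≫ s
  have he : e ≫ p = 0 := by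
    rw [Preadditive.sub_comp, Category.id_comp, Category.assoc, hs, Category.comp_id, sub_self]
  have hC := isFP_cokernel hH (LimModLib.isFT_of_isFP hH hfp) hH hfp e
  haveI : IsIso (cokernel.desc e p he) := by
    refine ⟨⟨s ≫ cokernel.π e, (cancel_epi (cokernel.π e)).1 ?_, ?_⟩⟩
    · rw [cokernel.π_desc_assoc, Category.comp_id, ← Category.assoc]
      have := cokernel.condition e
      rw [Preadditive.sub_comp, Category.id_comp, sub_eq_zero] at this
      exact this.symm
    · rw [Category.assoc, cokernel.π_desc, hs]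
  refine (QCoh.isFP_iff hF).2 fun U => ?_
  haveI := QCoh.finitePresentation_of_isFP hC U.2
  exact finitePresentation_of_bijective (inv (cokernel.desc e p he)) U.1 (bijective_app_of_isIso _ _)

theorem isFP_of_isFinitelyPresentable [CompactSpace X] [QuasiSeparatedSpace X] (F : QCohCat.QCoh X)
    (h : IsFinitelyPresentable.{u} F) : CohB1.IsFP F.obj := by
  have hF : Coh.IsQCoh F.obj := F.property
  haveI := isFiltered_ix hF (nonempty_ix hF)
  let D : Ix hF ⥤ QCohCat.QCoh X := (QCohCat.isQCoh X).lift (diag hF) (isQCoh_diag hF)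
  let d : Cocone D :=
    { pt := F
      ι := { app := fun i => ObjectProperty.homMk ((cocone hF).ι.app i)
             naturality := fun i j f => by
              ext1
              exact (cocone hF).ι.naturality f } }
  have hd : IsColimit ((QCohCat.isQCoh X).ι.mapCocone d) :=
    (nonempty_isColimit hF).some.ofIsoColimit (Cocone.ext (Iso.refl _) fun j => Category.comp_id _)
  obtain ⟨i, s, hs⟩ := IsFinitelyPresentable.exists_hom_of_isColimit (isColimitOfReflects _ hd : IsColimit d) (𝟙 F)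
  exact isFP_of_retract (isQCoh_diag hF i) (isFP_diag hF i) hF ((cocone hF).ι.app i) s.hom
    (congrArg InducedCategory.Hom.hom hs)

end Groth.Agent.FPEnough
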