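import Groth.Agent.FPEnough.Colim
import Groth.Agent.QCoh.DevissageIdeal

/-!
# A module of finite type is a directed colimit of quotients of finite presentation
-/

set_option autoImplicit false
set_option backward.isDefEq.respectTransparency false
set_option backward.isDefEq.respectTransparency.types false

universe u

open CategoryTheory CategoryTheory.Limits AlgebraicGeometry Opposite TopologicalSpace

namespace Groth.Agent.FPEnough

variable {X : Scheme.{u}}

attribute [local instance] QCoh.hasFiniteBiproducts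

theorem isFT_biproduct {β : Type u} [Fintype β] (T : β → X.Modules) (hq : ∀ b, Coh.IsQCoh (T b))
    (hft : ∀ b, CohB1.IsFT (T b)) : CohB1.IsFT (⨁ T) := by
  classical
  have hT := QCoh.isQCoh_biproduct T hq
  refine (QCoh.isFT_iff hT).2 fun U => ?_
  haveI := fun b => QCoh.finite_of_isFT (hq b) (hft b) U.2
  let f : (∀ b, Γ(T b, U.1)) →ₗ[Γ(X, U.1)] Γ(⨁ T, U.1) :=
    ∑ b, (QCoh.appLin (biproduct.ι T b) U.1).comp (LinearMap.proj b)
  refine Module.Finite.of_surjective f fun x => ⟨fun b => (biproduct.π T b).app U.1 x, ?_⟩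
  rw [LinearMap.sum_apply]
  exact (QCoh.biproduct_app_decomp T U.1 x).symm

theorem exists_epi_directed [CompactSpace X] [QuasiSeparatedSpace X] {F : X.Modules} (hF : Coh.IsQCoh F)
    (hft : CohB1.IsFT F) :
    ∃ (J : Type u) (_ : PartialOrder J) (_ : IsDirected J (· ≤ ·)) (_ : Nonempty J) (D : J ⥤ X.Modules)
      (ι : D ⟶ (Functor.const J).obj F), Nonempty (IsColimit (Cocone.mk F ι)) ∧
      (∀ j, CohB1.IsFP (D.obj j)) ∧ ∀ (j j' : J) (h : j ⟶ j'), Epi (D.map h) := by
  classical
  obtain ⟨P, ψ, hP, hPfp, hepi⟩ := exists_epi_isFP hF hft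
  haveI := hepi
  let a : Good F := ⟨Over.mk ψ, hP, hPfp⟩
  let E : Type u := Σ V : X.affineOpens, {z : Γ(P, V.1) // ψ.app V.1 z = 0}
  choose k d hd w hw using fun e : E => exists_killer hF a e.1 e.2.1 e.2.2
  let src : Finset E → X.Modules := fun T => ⨁ fun e : {e // e ∈ T} => (k e.1).1.left
  let m : ∀ T : Finset E, src T ⟶ P := fun T => biproduct.desc fun e => d e.1
  have hψm : ∀ T, m T ≫ ψ = 0 := fun T => by
    refine biproduct.hom_ext' _ _ fun e => ?_
    rw [biproduct.ι_desc_assoc, comp_zero]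
    exact hd e.1
  have hsub : ∀ {T T' : Finset E}, T ≤ T' → m T ≫ cokernel.π (m T') = 0 := fun {T T'} h => by
    refine biproduct.hom_ext' _ _ fun e => ?_
    rw [biproduct.ι_desc_assoc, comp_zero]
    have := biproduct.ι (fun e : {e // e ∈ T'} => (k e.1).1.left) ⟨e.1, h e.2⟩ ≫= cokernel.condition (m T')
    rwa [biproduct.ι_desc_assoc, comp_zero] at this
  let D : Finset E ⥤ X.Modules :=
    { obj := fun T => cokernel (m T)
      map := fun {T T'} h => cokernel.desc (m T) (cokernel.π (m T')) (hsub (leOfHom h))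
      map_id := fun T => (cancel_epi (cokernel.π (m T))).1 (by rw [cokernel.π_desc, Category.comp_id])
      map_comp := fun {T T' T''} h h' => (cancel_epi (cokernel.π (m T))).1 (by
        rw [cokernel.π_desc, cokernel.π_desc_assoc, cokernel.π_desc]) }
  let ι : D ⟶ (Functor.const (Finset E)).obj F :=
    { app := fun T => cokernel.desc (m T) ψ (hψm T)
      naturality := fun T T' h => (cancel_epi (cokernel.π (m T))).1 (by
        show cokernel.π (m T) ≫ cokernel.desc (m T) _ _ ≫ cokernel.desc (m T') ψ _ =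
          cokernel.π (m T) ≫ cokernel.desc (m T) ψ _ ≫ 𝟙 F
        rw [Category.comp_id, cokernel.π_desc_assoc, cokernel.π_desc]
        exact (cokernel.π_desc (m T) ψ (hψm T)).symm) }
  refine ⟨Finset E, inferInstance, inferInstance, inferInstance, D, ι, ?_, fun T => ?_, fun T T' h => ?_⟩
  · have hcov : ∀ x : X, ∃ V : X.affineOpens, x ∈ V.1 := fun x => by
      obtain ⟨_, ⟨U, hU, rfl⟩, hx, -⟩ := X.isBasis_affineOpens.exists_subset_of_mem_open (Set.mem_univ x) isOpen_univ
      exact ⟨⟨U, hU⟩, hx⟩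
    have hbase : ∀ (s : Cocone D) (T : Finset E),
        cokernel.π (m T) ≫ s.ι.app T = cokernel.π (m ∅) ≫ s.ι.app ∅ := fun s T => by
      rw [← s.w (homOfLE (Finset.empty_subset T))]
      exact (cokernel.π_desc_assoc _ _ _ _).symm
    have hkill : ∀ s : Cocone D, kernel.ι ψ ≫ cokernel.π (m ∅) ≫ s.ι.app ∅ = 0 := by
      intro s
      let V : X.affineOpens → X.Opens := fun V => V.1
      -- compare on an affine open around each point
      refine LimModLib.eq_zero_of_restrict (fun V : X.affineOpens => V.1.ι)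
        (fun x => by obtain ⟨V, hV⟩ := hcov x; exact ⟨V, ⟨x, hV⟩, rfl⟩) _ fun U => ?_
      refine Scheme.Modules.hom_ext _ _ fun W => ?_
      ext z
      have hle : U.1.ι ''ᵁ W ≤ U.1 := by
        refine le_trans (Scheme.Hom.image_le_opensRange _ _) ?_
        rw [Scheme.Opens.opensRange_ι]
      refine LimModLib.LHom.ext_top (QCoh.isQCoh_kernel hP hF ψ) U.2
        (LimModLib.LHom.ofHom (kernel.ι ψ ≫ cokernel.π (m ∅) ≫ s.ι.app ∅) U.1) (LimModLib.LHom.ofHom 0 U.1)
        (fun y => ?_) (U.1.ι ''ᵁ W) hle z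
      let e : E := ⟨U, (kernel.ι ψ).app U.1 y, congr(($(kernel.condition ψ)).app U.1 y)⟩
      show (cokernel.π (m ∅) ≫ s.ι.app ∅).app U.1 e.2.1 = 0
      rw [← hbase s {e}, ← hw e]
      refine Eq.trans ?_ (map_zero ((s.ι.app {e}).app U.1).hom)
      refine congrArg ((s.ι.app {e}).app U.1) ?_
      have hz : d e ≫ cokernel.π (m {e}) = 0 := by
        have := biproduct.ι (fun x : {x // x ∈ ({e} : Finset E)} => (k x.1).1.left) ⟨e, Finset.mem_singleton_self e⟩ ≫=
          cokernel.condition (m {e})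
        rwa [biproduct.ι_desc_assoc, comp_zero] at this
      exact congr(($hz).app U.1 (w e))
    let hcol := (ShortComplex.exact_kernel ψ).gIsCokernel
    refine ⟨{ desc := fun s => hcol.desc (CokernelCofork.ofπ _ (hkill s))
              fac := fun s T => ?_
              uniq := fun s g hg => ?_ }⟩
    · refine (cancel_epi (cokernel.π (m T))).1 ?_
      show cokernel.π (m T) ≫ cokernel.desc (m T) ψ _ ≫ _ = _
      rw [cokernel.π_desc_assoc, hbase s T]
      exact Cofork.IsColimit.π_desc hcol
    · refine Cofork.IsColimit.hom_ext hcol ?_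
      have h1 : ψ ≫ g = cokernel.π (m ∅) ≫ s.ι.app ∅ := by
        rw [← hg ∅]
        exact (cokernel.π_desc_assoc _ _ _ _).symm
      exact h1.trans (hcol.fac (CokernelCofork.ofπ _ (hkill s)) WalkingParallelPair.one).symm
  · have hq : ∀ e : {e // e ∈ T}, Coh.IsQCoh (k e.1).1.left := fun e => (k e.1).2.1
    exact isFP_cokernel (QCoh.isQCoh_biproduct _ hq)
      (isFT_biproduct _ hq fun e => LimModLib.isFT_of_isFP (k e.1).2.1 (k e.1).2.2) hP hPfp _
  · haveI : Epi (cokernel.π (m T) ≫ D.map h) := by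
      show Epi (cokernel.π (m T) ≫ cokernel.desc (m T) _ _)
      rw [cokernel.π_desc]; infer_instance
    exact epi_of_epi (cokernel.π (m T)) (D.map h)

end Groth.Agent.FPEnough
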