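import Groth.Agent.QCoh.Tilde
import Groth.Agent.QCoh.FT
import Mathlib.Algebra.Category.ModuleCat.FilteredColimits
import Mathlib.CategoryTheory.Limits.ConcreteCategory.Basic

/-!
# Sections on an affine of a filtered colimit of quasi-coherent modules
-/

set_option autoImplicit false
set_option backward.isDefEq.respectTransparency false
set_option backward.isDefEq.respectTransparency.types false

universe u

open CategoryTheory CategoryTheory.Limits AlgebraicGeometry Opposite TopologicalSpace

namespace Groth.Agent.FPEnough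

variable {J : Type u} [SmallCategory J]

theorem preservesColimit_moduleSpecΓ {R : CommRingCat.{u}} (Gs : J ⥤ (Spec R).Modules)
    (hG : ∀ j, Coh.IsQCoh (Gs.obj j)) : PreservesColimit Gs (moduleSpecΓFunctor (R := R)) := by
  let M := Gs ⋙ moduleSpecΓFunctor (R := R)
  let e : M ⋙ tilde.functor R ≅ Gs :=
    NatIso.ofComponents (fun j => @asIso _ _ _ _ (Scheme.Modules.fromTildeΓ (Gs.obj j))
      ((isQuasicoherent_iff_isIso_fromTildeΓ _).1 (hG j)))
      fun f => (tilde.adjunction (R := R)).counit.naturality (Gs.map f)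
  have hc : IsColimit ((Cocone.precompose e.inv).obj ((tilde.functor R).mapCocone (colimit.cocone M))) :=
    (IsColimit.precomposeInvEquiv e _).symm (isColimitOfPreserves (tilde.functor R) (colimit.isColimit M))
  refine preservesColimit_of_preserves_colimit_cocone hc ((colimit.isColimit M).ofIsoColimit
    (Cocone.ext ((tilde.toTildeΓNatIso (R := R)).app (colimit M)) fun j => ?_))
  show colimit.ι M j ≫ tilde.toTildeΓNatIso.hom.app (colimit M) =
    moduleSpecΓFunctor.map (e.inv.app j ≫ (tilde.functor R).map (colimit.ι M j))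
  rw [show colimit.ι M j ≫ tilde.toTildeΓNatIso.hom.app (colimit M) =
      tilde.toTildeΓNatIso.hom.app (M.obj j) ≫
        moduleSpecΓFunctor.map ((tilde.functor R).map (colimit.ι M j)) from
    (tilde.toTildeΓNatIso (R := R)).hom.naturality (colimit.ι M j), Functor.map_comp]
  refine congrArg (· ≫ _) ?_
  have h1 : moduleSpecΓFunctor.map (e.hom.app j) ≫ moduleSpecΓFunctor.map (e.inv.app j) = 𝟙 _ := by
    rw [← Functor.map_comp, Iso.hom_inv_id_app, CategoryTheory.Functor.map_id]
  have h2 : tilde.toTildeΓNatIso.hom.app (M.obj j) ≫ moduleSpecΓFunctor.map (e.hom.app j) = 𝟙 _ :=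
    (tilde.adjunction (R := R)).right_triangle_components (Gs.obj j)
  refine (Category.comp_id _).symm.trans ?_
  refine (congrArg (tilde.toTildeΓNatIso.hom.app (M.obj j) ≫ ·) h1.symm).trans ?_
  rw [← Category.assoc, h2, Category.id_comp]

variable [IsFiltered J] {X : Scheme.{u}} {G : J ⥤ X.Modules} {c : Cocone G}

/-- Sections over an affine of a filtered colimit of quasi-coherent modules. -/
theorem sections_colimit (hG : ∀ j, Coh.IsQCoh (G.obj j)) (hc : IsColimit c) {V : X.Opens} (hV : IsAffineOpen V) :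
    (∀ x : Γ(c.pt, V), ∃ (j : J) (y : Γ(G.obj j, V)), (c.ι.app j).app V y = x) ∧
      ∀ (j : J) (y : Γ(G.obj j, V)), (c.ι.app j).app V y = 0 → ∃ (k : J) (f : j ⟶ k), (G.map f).app V y = 0 := by
  let R := Scheme.Modules.restrictFunctor hV.fromSpec
  let Γ' := moduleSpecΓFunctor (R := Γ(X, V))
  haveI := preservesColimit_moduleSpecΓ (G ⋙ R) fun j => QCoh.isQCoh_restrict _ (hG j)
  have hM : IsColimit (Γ'.mapCocone (R.mapCocone c)) := isColimitOfPreserves Γ' (isColimitOfPreserves R hc)
  have key : ∀ {M N : X.Modules} (f : M ⟶ N) (x : Γ(M, V)),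
      (Γ'.map (R.map f)).hom (QCoh.chartEquiv hV M x) = QCoh.chartEquiv hV N (f.app V x) := by
    intro M N f x
    show f.app (hV.fromSpec ''ᵁ ⊤) (M.presheaf.map (homOfLE (QCoh.image_top_fromSpec hV).le).op x) =
      N.presheaf.map (homOfLE (QCoh.image_top_fromSpec hV).le).op (f.app V x)
    exact QCoh.map_app_comm f _ x
  refine ⟨fun x => ?_, fun j y hy => ?_⟩
  · obtain ⟨j, z, hz⟩ := Concrete.isColimit_exists_rep _ hM (QCoh.chartEquiv hV c.pt x)
    refine ⟨j, (QCoh.chartEquiv hV (G.obj j)).symm z, (QCoh.chartEquiv hV c.pt).injective ?_⟩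
    refine (key (c.ι.app j) _).symm.trans ?_
    rw [LinearEquiv.apply_symm_apply]
    exact hz
  · have h0 : (Γ'.map (R.map (c.ι.app j))).hom (QCoh.chartEquiv hV _ y) =
        (Γ'.map (R.map (c.ι.app j))).hom 0 := by
      rw [key, hy]
      exact (map_zero (QCoh.chartEquiv hV c.pt)).trans (map_zero (Γ'.map (R.map (c.ι.app j))).hom).symm
    obtain ⟨k, f, g, hfg⟩ := (Concrete.isColimit_rep_eq_iff_exists _ (i := j) (j := j) hM _ _).1 h0
    refine ⟨k, f, (QCoh.chartEquiv hV (G.obj k)).injective ?_⟩
    rw [← key, map_zero]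
    exact hfg.trans (map_zero _)

end Groth.Agent.FPEnough
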