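import Groth.Agent.FPEnough.Extend
import Groth.Agent.FPEnough.Alg
import Groth.Agent.LimModLib.Kernel
import Mathlib.AlgebraicGeometry.Morphisms.QuasiSeparated

/-!
# Making a module finitely presented on one more affine open
-/

set_option autoImplicit false
set_option backward.isDefEq.respectTransparency false
set_option backward.isDefEq.respectTransparency.types false

universe u

open CategoryTheory CategoryTheory.Limits AlgebraicGeometry Opposite TopologicalSpace

namespace Groth.Agent.FPEnough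

variable {X : Scheme.{u}}

theorem finitePresentation_basicOpen {P : X.Modules} (hP : Coh.IsQCoh P) {V : X.Opens} (hV : IsAffineOpen V)
    [Module.FinitePresentation Γ(X, V) Γ(P, V)] (f : Γ(X, V)) :
    Module.FinitePresentation Γ(X, X.basicOpen f) Γ(P, X.basicOpen f) := by
  letI := QCoh.basicModule f P
  haveI := hV.isLocalization_basicOpen f
  haveI : IsScalarTower Γ(X, V) Γ(X, X.basicOpen f) Γ(P, X.basicOpen f) :=
    IsScalarTower.of_algebraMap_smul fun _ _ => rfl
  haveI := QCoh.isLocalizedModule_basicRes f hP hV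
  exact FinitePresentation.of_isBaseChange (QCoh.basicRes f P)
    ((isLocalizedModule_iff_isBaseChange (Submonoid.powers f) _ _).1 inferInstance)

/-- Finite presentation on an open transfers along a morphism bijective there. -/
theorem finitePresentation_of_bijective {H P : X.Modules} (ψ : H ⟶ P) (U : X.Opens)
    (h : Function.Bijective (ψ.app U)) [Module.FinitePresentation Γ(X, U) Γ(P, U)] :
    Module.FinitePresentation Γ(X, U) Γ(H, U) :=
  Module.FinitePresentation.of_equiv (LinearEquiv.ofBijective (QCoh.appLin ψ U) h).symm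

variable [QuasiSeparatedSpace X]

/-- One step. -/
theorem exists_step {P : X.Modules} (hP : Coh.IsQCoh P) {ι : Type u} [Finite ι] (U : ι → X.affineOpens)
    (hU : ∀ a, Module.FinitePresentation Γ(X, (U a).1) Γ(P, (U a).1)) (V : X.affineOpens)
    {S : Set Γ(P, V.1)} (hS : S.Finite) :
    ∃ (H : X.Modules) (ψ : H ⟶ P), Coh.IsQCoh H ∧ (∀ a, Function.Bijective (ψ.app (U a).1)) ∧
      Module.FinitePresentation Γ(X, V.1) Γ(H, V.1) ∧ S ⊆ Set.range (ψ.app V.1) := by
  classical
  -- small opens inside the intersections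
  have hcov : ∀ a, ∃ t : Set Γ(X, V.1), t.Finite ∧ V.1 ⊓ (U a).1 ≤ ⨆ f : t, X.basicOpen f.1 ∧
      ∀ f ∈ t, X.basicOpen f ≤ (U a).1 ∧
        Module.FinitePresentation Γ(X, X.basicOpen f) Γ(P, X.basicOpen f) := by
    intro a
    have h := fun x : (V.1 ⊓ (U a).1 : X.Opens) => exists_basicOpen_le_affine_inter V.2 (U a).2 x.1 x.2
    choose f g hfg hx using h
    have hK : IsCompact ((V.1 ⊓ (U a).1 : X.Opens) : Set X) :=
      QuasiSeparatedSpace.inter_isCompact _ _ V.1.2 V.2.isCompact (U a).1.2 (U a).2.isCompact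
    obtain ⟨s, hs⟩ := hK.elim_finite_subcover (fun x : (V.1 ⊓ (U a).1 : X.Opens) => (X.basicOpen (f x) : Set X))
      (fun x => (X.basicOpen (f x)).2) fun x hx' => Set.mem_iUnion.2 ⟨⟨x, hx'⟩, hx ⟨x, hx'⟩⟩
    refine ⟨f '' s, s.finite_toSet.image f, fun x hx' => ?_, ?_⟩
    · obtain ⟨y, hy, hxy⟩ := Set.mem_iUnion₂.1 (hs hx')
      exact Opens.mem_iSup.2 ⟨⟨f y, y, hy, rfl⟩, hxy⟩
    · rintro _ ⟨x, -, rfl⟩
      refine ⟨(hfg x).le.trans (X.basicOpen_le _), ?_⟩
      haveI := hU a
      have key : ∀ D : X.Opens, X.basicOpen (g x) = D → Module.FinitePresentation Γ(X, D) Γ(P, D) := by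
        rintro _ rfl
        exact finitePresentation_basicOpen hP (U a).2 (g x)
      exact key _ (hfg x).symm
  choose t htf htcov ht using hcov
  let T := Σ a : ι, t a
  haveI : ∀ a, Finite (t a) := fun a => (htf a).to_subtype
  letI := fun i : T => QCoh.basicModule i.2.1 P
  haveI : ∀ i : T, IsScalarTower Γ(X, V.1) Γ(X, X.basicOpen i.2.1) Γ(P, X.basicOpen i.2.1) :=
    fun i => IsScalarTower.of_algebraMap_smul fun _ _ => rfl
  haveI := fun i : T => QCoh.isLocalizedModule_basicRes i.2.1 hP V.2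
  haveI : ∀ i : T, IsLocalization.Away i.2.1 Γ(X, X.basicOpen i.2.1) := fun i => V.2.isLocalization_basicOpen i.2.1
  haveI : ∀ i : T, Module.FinitePresentation Γ(X, X.basicOpen i.2.1) Γ(P, X.basicOpen i.2.1) :=
    fun i => (ht i.1 i.2.1 i.2.2).2
  obtain ⟨n, K, h, hK, hSh, hh⟩ := exists_fp_cover (fun i : T => i.2.1) (fun i => Γ(X, X.basicOpen i.2.1))
    (fun i => Γ(P, X.basicOpen i.2.1)) (fun i => QCoh.basicRes i.2.1 P) hS
  -- the module on the chart
  let j := V.2.fromSpec
  haveI : QuasiCompact j := inferInstance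
  let eP := QCoh.chartEquiv V.2 P
  let M' : ModuleCat.{u} Γ(X, V.1) := ModuleCat.of Γ(X, V.1) ((Fin n → Γ(X, V.1)) ⧸ K)
  let h' : M' ⟶ moduleSpecΓFunctor.obj (P.restrict j) := @ModuleCat.ofHom _ _ M' (moduleSpecΓFunctor.obj (P.restrict j)) _ M'.isModule _ (moduleSpecΓFunctor.obj (P.restrict j)).isModule (eP.toLinearMap ∘ₗ h)
  let φ : tilde M' ⟶ P.restrict j := (tilde.adjunction.homEquiv M' _).symm h'
  obtain ⟨H, ψ, e, hH, hcomm, hbij⟩ := exists_extend_map j hP (inferInstance : Coh.IsQCoh (tilde M')) φ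
  let eH : Γ(H, V.1) ≃ₗ[Γ(X, V.1)] M' := (QCoh.chartEquiv V.2 H).trans
    ((moduleSpecΓFunctor.mapIso e).toLinearEquiv.trans ((tilde.toTildeΓNatIso.app M').toLinearEquiv.symm))
  have hψ : ∀ x, ψ.app V.1 x = h (eH x) := by
    intro x
    apply eP.injective
    have h1 : h' = (tilde.toTildeΓNatIso.app M').hom ≫ moduleSpecΓFunctor.map φ := by
      rw [show h' = tilde.adjunction.homEquiv M' _ φ from ((tilde.adjunction.homEquiv M' _).apply_symm_apply h').symm,
        Adjunction.homEquiv_unit]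
      rfl
    have h2 : eP (h (eH x)) = h'.hom (eH x) := rfl
    rw [h2, h1, ModuleCat.hom_comp, LinearMap.comp_apply]
    have h3 : (tilde.toTildeΓNatIso.app M').hom.hom (eH x) =
        (moduleSpecΓFunctor.map e.hom).hom (QCoh.chartEquiv V.2 H x) :=
      (tilde.toTildeΓNatIso.app M').toLinearEquiv.apply_symm_apply _
    refine Eq.trans ?_ (congrArg (moduleSpecΓFunctor.map φ).hom h3).symm
    rw [← LinearMap.comp_apply, ← ModuleCat.hom_comp, ← Functor.map_comp, hcomm]
    show QCoh.toChart V.2 P (ψ.app V.1 x) = ψ.app (j ''ᵁ ⊤) (QCoh.toChart V.2 H x)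
    exact (QCoh.map_app_comm ψ _ x).symm
  refine ⟨H, ψ, hH, fun a => hbij _ ?_, ?_, fun s hs => ?_⟩
  · -- bijective over `V ⊓ U a`
    have e' : j ''ᵁ j ⁻¹ᵁ (U a).1 = V.1 ⊓ (U a).1 := by
      rw [Scheme.Hom.image_preimage_eq_opensRange_inf, V.2.opensRange_fromSpec]
    rw [e']
    refine bijective_app_of_cover hH hP ψ (fun f : t a => (⟨X.basicOpen f.1, V.2.basicOpen f.1⟩ : X.affineOpens))
      (fun f => le_inf (X.basicOpen_le _) (ht a f.1 f.2).1) (htcov a) (fun f => ?_) le_rfl
    refine bijective_app_basicOpen hH hP ψ V.2 f.1 (fun y => ?_) fun x hx => ?_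
    · obtain ⟨k, x', hx'⟩ := (hh ⟨a, f⟩).1 y
      exact ⟨k, eH.symm x', by rw [hψ, LinearEquiv.apply_symm_apply, hx']⟩
    · rw [hψ] at hx
      obtain ⟨k, hk⟩ := (hh ⟨a, f⟩).2 (eH x) hx
      exact ⟨k, eH.injective (by rw [map_smul, hk, map_zero])⟩
  · haveI : Module.FinitePresentation Γ(X, V.1) ((Fin n → Γ(X, V.1)) ⧸ K) :=
      Module.finitePresentation_of_surjective K.mkQ K.mkQ_surjective (by rw [Submodule.ker_mkQ]; exact hK)
    exact Module.FinitePresentation.of_equiv (M := ((Fin n → Γ(X, V.1)) ⧸ K)) eH.symm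
  · obtain ⟨x, hx⟩ := hSh hs
    exact ⟨eH.symm x, by rw [hψ, LinearEquiv.apply_symm_apply, hx]⟩

end Groth.Agent.FPEnough
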